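import Cfsg.Agent.Lib.Solvable.TwoLengthDerived.Blocks
import Cfsg.Agent.Lib.Solvable.TwoLengthExp.Main

/-!
# The two-length is at most the derived length of a Sylow two-subgroup
-/

set_option autoImplicit false

namespace CfsgLib.Solvable.TwoLengthDerived

open Subgroup CfsgLib CfsgLib.Solvable.FPFOperators CfsgLib.Solvable.TwoLengthExp
open scoped commutatorElement

universe u

/-- The scalar extension keeps vanishing chains. -/
theorem exists_closure_rep_chain {Γ : Type u} [Group Γ] {V : Type u} [AddCommGroup V] [Finite V]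
    [Module (ZMod 2) V] [Fact (Nat.Prime 2)] (ρ₀ : Γ →* Module.End (ZMod 2) V)
    (hinj : Function.Injective ρ₀) :
    ∃ (W : Type u) (_ : AddCommGroup W) (_ : Module (AlgebraicClosure (ZMod 2)) W)
      (_ : FiniteDimensional (AlgebraicClosure (ZMod 2)) W)
      (ρ : Γ →* Module.End (AlgebraicClosure (ZMod 2)) W),
      Function.Injective ρ ∧ ∀ (T : Subgroup Γ) (n : ℕ), ChainZero ρ₀ T n → ChainZero ρ T n := by
  haveI : Module.Finite (ZMod 2) V := Module.Finite.of_finite
  let bc := Module.End.baseChangeHom (ZMod 2) (AlgebraicClosure (ZMod 2)) V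
  have hbc : Function.Injective bc :=
    LinearMap.baseChangeHom_injective (ZMod 2) V (AlgebraicClosure (ZMod 2))
  refine ⟨_, inferInstance, inferInstance, inferInstance, bc.toMonoidHom.comp ρ₀,
    fun a b h => hinj (hbc h), fun T n h g' hg' => ?_⟩
  rw [← map_id T] at hg'
  obtain ⟨g, hg, hgg⟩ := IsChain.of_map (ρ := ρ₀) (ρ' := bc.toMonoidHom.comp ρ₀) (MonoidHom.id Γ)
    (fun g g' => g' = bc g) (map_one bc).symm (fun x g g' hgg => by
      rw [hgg]
      show (bc (ρ₀ x) - 1) * bc g = bc ((ρ₀ x - 1) * g)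
      exact ((map_mul bc _ g).trans (congrArg (· * bc g) ((map_sub bc (ρ₀ x) 1).trans
        (congrArg (bc (ρ₀ x) - ·) (map_one bc))))).symm) n g' hg'
  rw [hgg, h g hg]
  exact map_zero bc

/-- An invariant subspace and its quotient. -/
theorem exists_pair_rep {K : Type u} [Group K] {V : Type u} [AddCommGroup V] [Finite V]
    [Module (ZMod 2) V] (ρ : K →* Module.End (ZMod 2) V) (A : Submodule (ZMod 2) V)
    (hA : ∀ k, ∀ v ∈ A, ρ k v ∈ A) :
    ∃ (W : Type u) (_ : AddCommGroup W) (_ : Finite W) (_ : Module (ZMod 2) W)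
      (σ : K →* Module.End (ZMod 2) W),
      (∀ k, σ k = 1 → (∀ v, (ρ k - 1) v ∈ A) ∧ ∀ v ∈ A, (ρ k - 1) v = 0) ∧
      ∀ (T : Subgroup K) (n : ℕ),
        (∀ f, IsChain ρ T n f → (∀ v, f v ∈ A) ∧ ∀ v ∈ A, f v = 0) → ChainZero σ T n := by
  let fA : K → Module.End (ZMod 2) A := fun k => (ρ k).restrict (hA k)
  let q1 : K → Module.End (ZMod 2) (V ⧸ A) := fun k => A.mapQ A (ρ k) fun v hv => hA k v hv
  haveI : Finite (V ⧸ A) := Finite.of_surjective _ A.mkQ_surjective
  let σ : K →* Module.End (ZMod 2) ((V ⧸ A) × A) :=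
    { toFun := fun k => (q1 k).prodMap (fA k)
      map_one' := by
        refine LinearMap.ext ?_
        rintro ⟨a, b⟩
        obtain ⟨a, rfl⟩ := A.mkQ_surjective a
        refine Prod.ext (congrArg A.mkQ ?_) (Subtype.ext ?_)
        · show ρ 1 a = a
          rw [map_one]; rfl
        · show ρ 1 (b : V) = b
          rw [map_one]; rfl
      map_mul' := fun k k' => by
        refine LinearMap.ext ?_
        rintro ⟨a, b⟩
        obtain ⟨a, rfl⟩ := A.mkQ_surjective a
        refine Prod.ext (congrArg A.mkQ ?_) (Subtype.ext ?_)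
        · show ρ (k * k') a = ρ k (ρ k' a)
          rw [map_mul]; rfl
        · show ρ (k * k') (b : V) = ρ k (ρ k' b)
          rw [map_mul]; rfl }
  refine ⟨_, inferInstance, inferInstance, inferInstance, σ, fun k hk => ⟨fun v => ?_, fun v hv => ?_⟩,
    fun T n h g' hg' => ?_⟩
  · have e : A.mkQ (ρ k v) = A.mkQ v := congrArg Prod.fst (DFunLike.congr_fun hk (A.mkQ v, (0 : A)))
    rw [LinearMap.sub_apply, Module.End.one_apply]
    exact (Submodule.Quotient.eq A).1 e
  · have e : ρ k v = v :=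
      congrArg Subtype.val (congrArg Prod.snd (DFunLike.congr_fun hk (A.mkQ 0, (⟨v, hv⟩ : A))))
    rw [LinearMap.sub_apply, Module.End.one_apply, e, sub_self]
  rw [← map_id T] at hg'
  obtain ⟨g, hg, hgg⟩ := IsChain.of_map (ρ := ρ) (ρ' := σ) (MonoidHom.id K)
    (fun (g : Module.End (ZMod 2) V) (g' : Module.End (ZMod 2) ((V ⧸ A) × A)) => ∀ (v : V) (a : A),
      (g' (A.mkQ v, a)).1 = A.mkQ (g v) ∧ (((g' (A.mkQ v, a)).2 : A) : V) = g a)
    (fun v a => ⟨rfl, rfl⟩) (fun x g g' hgg v a => by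
      obtain ⟨h1, h2⟩ := hgg v a
      rw [Module.End.mul_apply, Module.End.mul_apply, LinearMap.sub_apply, Module.End.one_apply,
        LinearMap.sub_apply, Module.End.one_apply]
      refine ⟨?_, ?_⟩
      · show q1 x (g' (A.mkQ v, a)).1 - (g' (A.mkQ v, a)).1 = _
        rw [h1, map_sub]
        rfl
      · show (ρ x) ((g' (A.mkQ v, a)).2 : V) - ((g' (A.mkQ v, a)).2 : V) = _
        rw [h2]
        rfl) n g' hg'
  refine LinearMap.ext ?_
  rintro ⟨w, a⟩
  obtain ⟨v, rfl⟩ := A.mkQ_surjective w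
  obtain ⟨h1, h2⟩ := hgg v a
  refine Prod.ext (h1.trans ((Submodule.Quotient.mk_eq_zero A).2 ((h g hg).1 v)))
    (Subtype.ext (h2.trans ((h g hg).2 a a.2)))

/-- Chains on the top layer are iterated commutators. -/
theorem exists_chain_translate {G : Type u} [Group G] {U : Subgroup G} [U.Normal] {V : Type u}
    [AddCommGroup V] [Module (ZMod 2) V] (ρ₀ : G ⧸ U →* Module.End (ZMod 2) V) (π : U → V)
    (hadd : ∀ a b, π (a * b) = π a + π b)
    (hconj : ∀ (g : G) (a b : U), (b : G) = g * a * g⁻¹ → π b = ρ₀ (g : G ⧸ U) (π a))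
    {S A : Subgroup G} (hA : S ≤ normalizer (A : Set G)) :
    ∀ (n : ℕ) (g' : Module.End (ZMod 2) V), IsChain ρ₀ (S.map (QuotientGroup.mk' U)) n g' →
      ∀ a : U, (a : G) ∈ S → (a : G) ∈ A →
        ∃ b : U, (b : G) ∈ dser S n ∧ (b : G) ∈ A ∧ π b = g' (π a)
  | 0, g', h, a, haS, haA => ⟨a, haS, haA, by rw [show g' = 1 from h]; rfl⟩
  | n + 1, g', h, a, haS, haA => by
    obtain ⟨x', hx', g₀, hg₀, rfl⟩ := h
    rw [← map_dser] at hx'
    obtain ⟨x, hx, rfl⟩ := hx'
    obtain ⟨b, hb, hbA, hπ⟩ := exists_chain_translate ρ₀ π hadd hconj hA n g₀ hg₀ a haS haA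
    let c : U := ⟨x * b * x⁻¹, (inferInstance : U.Normal).conj_mem b b.2 x⟩
    have hπinv : π b⁻¹ = -π b := by
      refine eq_neg_of_add_eq_zero_left ?_
      have h1 := hadd 1 1
      rw [mul_one, left_eq_add] at h1
      rw [← hadd, inv_mul_cancel, h1]
    refine ⟨c * b⁻¹, ?_, ?_, ?_⟩
    · show x * (b : G) * x⁻¹ * (b : G)⁻¹ ∈ dser S (n + 1)
      rw [← commutatorElement_def]
      exact commutator_mem_commutator hx hb
    · exact mul_mem ((mem_normalizer_iff.1 (hA (dser_le S n hx)) _).1 hbA) (inv_mem hbA)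
    · rw [hadd, hπinv, hconj x b c rfl, hπ, ← sub_eq_add_neg, Module.End.mul_apply,
        LinearMap.sub_apply, Module.End.one_apply]
      rfl

/-- Chains for one Sylow subgroup of the quotient give them for all. -/
theorem chainZero_of_map {G K : Type*} [Group G] [Group K] [Finite G] [Finite K] {p : ℕ} [Fact p.Prime]
    {A : Type*} [Ring A] (σ : K →* A) {f : G →* K} (hf : Function.Surjective f) (S : Sylow p G)
    {n : ℕ} (h : ChainZero σ ((S : Subgroup G).map f) n) (P : Sylow p K) :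
    ChainZero σ (P : Subgroup K) n := by
  obtain ⟨k, hk⟩ := MulAction.exists_smul_eq K (S.mapSurjective hf) P
  rw [← hk, Sylow.coe_subgroup_smul]
  exact h.conj k

/-- The induction on the length of the chains of the operators. -/
theorem pLengthLE_of_chain : ∀ (n : ℕ) {H : Type u} [Group H] [Finite H],
    Group.IsSolvable H → Cfsg.pCore 2 H = ⊥ → ∀ {V : Type u} [AddCommGroup V] [Finite V]
      [Module (ZMod 2) V] (ρ₀ : H →* Module.End (ZMod 2) V), Function.Injective ρ₀ →
      (∀ P : Sylow 2 H, ChainZero ρ₀ (P : Subgroup H) (n + 1)) → Cfsg.PLengthLE 2 n H := by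
  haveI : Fact (Nat.Prime 2) := ⟨Nat.prime_two⟩
  intro n
  induction n with
  | zero =>
    intro H _ _ _ _ V _ _ _ ρ₀ hinj hch
    refine pLengthLE_zero fun P x hx => ?_
    have h := hch P _ (isChain_succ ρ₀ (n := 0) hx rfl)
    rw [mul_one, sub_eq_zero] at h
    rw [pow_zero, pow_one]
    exact hinj (h.trans ρ₀.map_one.symm)
  | succ k ih =>
    intro H _ _ hsol hcore V _ _ _ ρ₀ hinj₀ hch₀
    haveI := hsol
    refine pLengthLE_succ ?_
    obtain ⟨W₀, _, _, _, ρ, hinj, hρch⟩ := exists_closure_rep_chain ρ₀ hinj₀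
    set M := (Cfsg.upperPSeries 2 H 2).1 with hM
    haveI : M.Normal := (Cfsg.upperPSeries 2 H 2).2
    obtain ⟨S⟩ := (inferInstance : Nonempty (Sylow 2 H))
    set R := (S : Subgroup H) ⊓ M with hR
    set X := normalizer (R : Set H) with hX
    have hSX : (S : Subgroup H) ≤ X := fun x hx => inf_normalizer_le_normalizer_inf
      ⟨le_normalizer hx, by rw [normalizer_eq_top]; trivial⟩
    obtain ⟨SM, hSM⟩ := Coprime.exists_sylow_map_eq (inf_le_right : R ≤ M)
      (Coprime.card_sylow_inf_normal S M)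
    have hfrat : X ⊔ M = ⊤ := by
      have := Sylow.normalizer_sup_eq_top SM
      rwa [hSM] at this
    set E := layerGroup (S : Subgroup H) R (k + 1) with hE
    have hER : E ≤ R := layerGroup_le _ _ _
    have hXE : X ≤ normalizer (E : Set H) := normalizer_le_layerGroup _ R _
    have hkey : ∀ {y e' : H}, y ∈ dser (S : Subgroup H) k → e' ∈ dser (S : Subgroup H) k → e' ∈ E →
        ⁅y, e'⁆ = 1 := fun hy he' heE =>
      commutatorElement_eq_one_of_dser hcore ρ hinj S.isPGroup' inf_le_left hSX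
        (hρch _ _ (hch₀ S)) hy he' heE
    obtain ⟨V₂, _, _, _, ρ₂, π, hinj₂, hsurj, hadd, hconj⟩ :=
      exists_layer_rep (p := 2) (Fusion.PSolvable.psolvable_of_solvable (G := H))
    have hlift : ∀ q : H ⧸ M, ∃ x ∈ X, QuotientGroup.mk' M x = q := fun q => by
      obtain ⟨g, rfl⟩ := QuotientGroup.mk'_surjective M q
      obtain ⟨x, hx, u, hu, rfl⟩ := mem_sup_of_normal_right.1 (hfrat.symm ▸ mem_top g)
      exact ⟨x, hx, by
        rw [map_mul, show QuotientGroup.mk' M u = 1 from (QuotientGroup.eq_one_iff u).2 hu, mul_one]⟩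
    set T0 := Submodule.span (ZMod 2) (π '' {a : M | (a : H) ∈ E}) with hT0
    have hinv : ∀ q, ∀ v ∈ T0, ρ₂ q v ∈ T0 := by
      intro q v hv
      obtain ⟨x, hx, rfl⟩ := hlift q
      induction hv using Submodule.span_induction with
      | mem w hw =>
        obtain ⟨a, ha, rfl⟩ := hw
        let b : M := ⟨x * a * x⁻¹, (inferInstance : M.Normal).conj_mem _ a.2 x⟩
        exact Submodule.subset_span ⟨b, (mem_normalizer_iff.1 (hXE hx) (a : H)).1 ha, hconj x a b rfl⟩
      | zero => rw [map_zero]; exact zero_mem _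
      | add a b _ _ ha hb => rw [map_add]; exact add_mem ha hb
      | smul c a _ ha => rw [map_smul]; exact Submodule.smul_mem _ c ha
    obtain ⟨W, _, _, _, σ, hσker, hσch⟩ := exists_pair_rep ρ₂ T0 hinv
    have hinjσ : Function.Injective σ := by
      refine (MonoidHom.ker_eq_bot_iff σ).1 (eq_bot_iff.2 ?_)
      rw [← pCore_mod_upper_two (p := 2) (G := H)]
      refine Cores.le_pCore fun q => ⟨1, Subtype.ext ?_⟩
      obtain ⟨h1, h2⟩ := hσker q q.2
      show (q : H ⧸ M) ^ 2 ^ 1 = 1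
      refine pow_eq_one_of_sub_pow_eq_zero hinj₂ (j := 2) le_rfl (LinearMap.ext fun v => ?_)
      rw [pow_two, Module.End.mul_apply, LinearMap.zero_apply]
      exact h2 _ (h1 v)
    refine ih inferInstance pCore_mod_upper_two σ hinjσ fun P => ?_
    refine chainZero_of_map σ (QuotientGroup.mk'_surjective M) S (hσch _ _ fun g hg => ⟨fun v => ?_, ?_⟩) P
    · obtain ⟨a, ha, rfl⟩ := hsurj S v
      obtain ⟨b, hb, -, hπ⟩ := exists_chain_translate ρ₂ π hadd hconj (A := ⊤)
        (by rw [normalizer_eq_top]; exact le_top) (k + 1) g hg a ha (mem_top _)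
      rw [← hπ]
      exact Submodule.subset_span ⟨b, mem_layerGroup hb ⟨dser_le _ _ hb, b.2⟩, rfl⟩
    · intro v hv
      induction hv using Submodule.span_induction with
      | mem w hw =>
        obtain ⟨a, ha, rfl⟩ := hw
        obtain ⟨x', hx', g₀, hg₀, rfl⟩ := hg
        rw [← map_dser] at hx'
        obtain ⟨x, hx, rfl⟩ := hx'
        obtain ⟨b, hb, hbE, hπ⟩ := exists_chain_translate ρ₂ π hadd hconj (A := E)
          (hSX.trans hXE) k g₀ hg₀ a ((inf_le_left : R ≤ S) (hER ha)) ha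
        have hc : (b : H) = x * b * x⁻¹ :=
          (mul_inv_eq_iff_eq_mul.2 (commutatorElement_eq_one_iff_mul_comm.1 (hkey hx hb hbE))).symm
        rw [Module.End.mul_apply, ← hπ, LinearMap.sub_apply, Module.End.one_apply,
          show ρ₂ (QuotientGroup.mk' M x) (π b) = π b from (hconj x b b hc).symm, sub_self]
      | zero => rw [map_zero]
      | add a b _ _ ha hb => rw [map_add, ha, hb, add_zero]
      | smul c a _ ha => rw [map_smul, ha, smul_zero]

/-- The two-length is at most the derived length of a Sylow two-subgroup. -/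
theorem pLengthLE_of_sylow_derived {G : Type u} [Group G] [Finite G] (hG : Cfsg.IsPSolvable 2 G)
    (d : ℕ) (hd : ∀ P : Sylow 2 G, derivedSeries (P : Subgroup G) d = ⊥) :
    Cfsg.PLengthLE 2 d G := by
  haveI : Fact (Nat.Prime 2) := ⟨Nat.prime_two⟩
  rcases d with _ | n
  · refine pLengthLE_zero fun P x hx => ?_
    have h : (⟨x, hx⟩ : (P : Subgroup G)) ∈ (⊥ : Subgroup (P : Subgroup G)) := by
      rw [← hd P, derivedSeries_zero]; exact mem_top _
    rw [pow_zero, pow_one]
    exact congrArg Subtype.val (mem_bot.1 h)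
  haveI := isSolvable_of_isPSolvable_two hG
  haveI : ((Cfsg.upperPSeries 2 G 2).1).Normal := (Cfsg.upperPSeries 2 G 2).2
  refine pLengthLE_succ ?_
  obtain ⟨V, _, _, _, ρ₀, π, hinj, hsurj, hadd, hconj⟩ := exists_layer_rep (p := 2) hG
  obtain ⟨S⟩ := (inferInstance : Nonempty (Sylow 2 G))
  refine pLengthLE_of_chain n inferInstance pCore_mod_upper_two ρ₀ hinj fun P => ?_
  refine chainZero_of_map ρ₀ (QuotientGroup.mk'_surjective _) S (fun g hg => ?_) P
  refine LinearMap.ext fun v => ?_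
  obtain ⟨a, ha, rfl⟩ := hsurj S v
  obtain ⟨b, hb, -, hπ⟩ := exists_chain_translate ρ₀ π hadd hconj (A := ⊤)
    (by rw [normalizer_eq_top]; exact le_top) (n + 1) g hg a ha (mem_top _)
  rw [dser_eq_map_derivedSeries, hd S, Subgroup.map_bot, mem_bot] at hb
  have h1 := hadd 1 1
  rw [mul_one, left_eq_add] at h1
  rw [← hπ, show b = 1 from Subtype.ext hb, h1, LinearMap.zero_apply]

end CfsgLib.Solvable.TwoLengthDerived
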