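import Cfsg.Agent.Lib.Solvable.TwoLengthExp.Tops

/-!
# A group generated by squares of plane roots

Squares in such a group are central, so none of its elements is itself a plane root of a nontrivial
involution.
-/

set_option autoImplicit false

namespace CfsgLib.Solvable.TwoLengthDerived

open Subgroup CfsgLib CfsgLib.Solvable.TwoLengthExp
open scoped commutatorElement

variable {M : Type*} [CommGroup M] [Finite M] (hM : ∀ v : M, v * v = 1 → v = 1)
  {Y : Subgroup (MulAut M)} {s : Set (MulAut M)} (hEY : closure s ≤ Y)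
  (hE : IsPGroup 2 (closure s))
  (hgen : ∀ z ∈ s, z = 1 ∨ ∃ r ∈ Y, r ∈ normalizer (closure s : Set (MulAut M)) ∧ PlaneTop Y r ∧
    r ^ 2 = z)

include hM hEY hE hgen

/-- The generators centralise the characteristic abelian subgroups. -/
theorem commute_gen_of_abelian {A : Subgroup (MulAut M)} (hAE : A ≤ closure s)
    (hAn : normalizer (closure s : Set (MulAut M)) ≤ normalizer (A : Set (MulAut M)))
    (hAc : ∀ a ∈ A, ∀ b ∈ A, Commute a b) {z : MulAut M} (hz : z ∈ s) {a : MulAut M} (ha : a ∈ A) :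
    Commute a z := by
  haveI : Fact (Nat.Prime 2) := ⟨Nat.prime_two⟩
  rcases hgen z hz with rfl | ⟨r, hrY, hrn, hr, rfl⟩
  · exact Commute.one_right a
  have hrN : r ∈ normalizer (A : Set (MulAut M)) := hAn hrn
  have hzN : r ^ 2 ∈ normalizer (A : Set (MulAut M)) := pow_mem hrN 2
  set z := r ^ 2 with hzdef
  have hz2 : z * z = 1 := hr.sq
  have hrz : r * r = z := (pow_two r).symm
  have hD : ∀ b ∈ A, ⁅b, z⁆ ∈ A := fun b hb => by
    rw [show ⁅b, z⁆ = b * (z * b⁻¹ * z⁻¹) by rw [commutatorElement_def]; group]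
    exact mul_mem hb ((mem_normalizer_iff.1 hzN _).1 (inv_mem hb))
  have hmul : ∀ b ∈ A, ∀ b' ∈ A, ⁅b * b', z⁆ = ⁅b, z⁆ * ⁅b', z⁆ := fun b hb b' hb' => by
    rw [show ⁅b * b', z⁆ = b * ⁅b', z⁆ * b⁻¹ * ⁅b, z⁆ by simp only [commutatorElement_def]; group,
      (hAc b hb _ (hD b' hb')).eq, mul_inv_cancel_right, (hAc _ (hD b' hb') _ (hD b hb)).eq]
  have hpowD : ∀ (b : MulAut M), b ∈ A → ∀ i : ℕ, ⁅b ^ i, z⁆ = ⁅b, z⁆ ^ i := fun b hb i => by
    induction i with
    | zero => rw [pow_zero, pow_zero, commutatorElement_one_left]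
    | succ i ih => rw [pow_succ, hmul _ (pow_mem hb i) b hb, ih, pow_succ]
  have hconjD : ∀ b : MulAut M, ⁅r * b * r⁻¹, z⁆ = r * ⁅b, z⁆ * r⁻¹ := fun b => by
    rw [← hrz]; simp only [commutatorElement_def]; group
  have hfix : ∀ b : MulAut M, ⁅b, z⁆ * ⁅b, z⁆ = 1 → z * ⁅b, z⁆ * z⁻¹ = ⁅b, z⁆ := fun b hb2 => by
    have e : z * ⁅b, z⁆ * z⁻¹ = ⁅b, z⁆⁻¹ := by
      rw [commutatorElement_def, inv_eq_of_mul_eq_one_right hz2]
      simp only [mul_inv_rev, inv_inv]
      rw [inv_eq_of_mul_eq_one_right hz2]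
      simp only [mul_assoc, hz2, mul_one]
    rw [e]
    exact inv_eq_of_mul_eq_one_right hb2
  -- only fixed involutions matter
  have hkey : ∀ b ∈ A, ⁅b, z⁆ * ⁅b, z⁆ = 1 → Commute r ⁅b, z⁆ → ⁅b, z⁆ = 1 := by
    intro b hb hb2 hrc
    by_contra hne
    exact false_of_commute_conj hM hr hrY (hEY (hAE hb)) hb2 (hAc _ (hD b hb) b hb)
      ((mul_inv_eq_iff_eq_mul.1 (hfix b hb2)).symm : Commute ⁅b, z⁆ z) hrc hne
      (hAc b hb _ ((mem_normalizer_iff.1 hrN b).1 hb))
  have hsq : ∀ b ∈ A, ⁅b, z⁆ * ⁅b, z⁆ = 1 → ⁅b, z⁆ = 1 := by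
    intro b hb hb2
    have hb' : r * b * r⁻¹ ∈ A := (mem_normalizer_iff.1 hrN b).1 hb
    have hcc : Commute ⁅b, z⁆ (r * ⁅b, z⁆ * r⁻¹) :=
      hAc _ (hD b hb) _ ((mem_normalizer_iff.1 hrN _).1 (hD b hb))
    have h := hkey _ (mul_mem hb hb') (by
      rw [hmul b hb _ hb', hconjD, hcc.symm.mul_mul_mul_comm, hb2, one_mul,
        show r * ⁅b, z⁆ * r⁻¹ * (r * ⁅b, z⁆ * r⁻¹) = r * (⁅b, z⁆ * ⁅b, z⁆) * r⁻¹ by group, hb2,
        mul_one, mul_inv_cancel]) (by
      rw [hmul b hb _ hb', hconjD]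
      refine mul_inv_eq_iff_eq_mul.1 ?_
      calc r * (⁅b, z⁆ * (r * ⁅b, z⁆ * r⁻¹)) * r⁻¹
          = r * ⁅b, z⁆ * r⁻¹ * ((r * r) * ⁅b, z⁆ * (r * r)⁻¹) := by group
        _ = ⁅b, z⁆ * (r * ⁅b, z⁆ * r⁻¹) := by rw [hrz, hfix b hb2, hcc.eq])
    rw [hmul b hb _ hb', hconjD] at h
    refine hkey b hb hb2 ?_
    have h1 : r * ⁅b, z⁆ * r⁻¹ = ⁅b, z⁆ := by
      rw [eq_inv_of_mul_eq_one_right h]
      exact inv_eq_of_mul_eq_one_right hb2
    exact mul_inv_eq_iff_eq_mul.1 h1
  obtain ⟨k, hk⟩ := (hE.to_le hAE) ⟨⁅a, z⁆, hD a ha⟩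
  have hk' : ⁅a, z⁆ ^ 2 ^ k = 1 := congrArg Subtype.val hk
  refine commutatorElement_eq_one_iff_mul_comm.1 ?_
  clear hk
  induction k with
  | zero => rwa [pow_zero, pow_one] at hk'
  | succ k ih =>
    refine ih ?_
    rw [← hpowD a ha]
    refine hsq _ (pow_mem ha _) ?_
    rw [hpowD a ha, ← pow_add, ← two_mul, ← pow_succ']
    exact hk'

/-- Squares are central. -/
theorem commute_mul_self {a e : MulAut M} (ha : a ∈ closure s) (he : e ∈ closure s) :
    Commute e (a * a) := by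
  haveI : Fact (Nat.Prime 2) := ⟨Nat.prime_two⟩
  set E := closure s with hEdef
  haveI : Group.IsNilpotent E := hE.isNilpotent
  have h2 := TwoLength.commutator_le_center_of_charAbelian (D := E) fun A hA hAc => by
    haveI := hA
    intro a ha
    refine mem_center_iff.2 fun r => Subtype.ext ?_
    obtain ⟨r, hr⟩ := r
    show r * (a : MulAut M) = a * r
    induction hr using closure_induction with
    | mem y hy =>
      exact (commute_gen_of_abelian hM hEY hE hgen (A := A.map E.subtype) (map_subtype_le A)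
        (TwoLength.mem_normalizer_map_of_char A)
        (by rintro _ ⟨a, ha, rfl⟩ _ ⟨b, hb, rfl⟩
            exact (show Commute a b from hAc a ha b hb).map E.subtype)
        hy (mem_map_of_mem E.subtype ha)).eq.symm
    | one => rw [one_mul, mul_one]
    | mul s t _ _ hs ht => exact ((show Commute s (a : MulAut M) from hs).mul_left ht).eq
    | inv s _ hs => exact (show Commute s (a : MulAut M) from hs).inv_left.eq
  have hcen : ∀ a ∈ E, ∀ b ∈ E, ∀ e ∈ E, Commute ⁅a, b⁆ e := fun a ha b hb e he =>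
    (congrArg Subtype.val (mem_center_iff.1
      (h2 (commutator_mem_commutator (mem_top (⟨a, ha⟩ : E)) (mem_top (⟨b, hb⟩ : E)))) ⟨e, he⟩)).symm
  have hcE : ∀ a ∈ E, ∀ b ∈ E, ⁅a, b⁆ ∈ E := fun a ha b hb => by
    rw [commutatorElement_def]
    exact mul_mem (mul_mem (mul_mem ha hb) (inv_mem ha)) (inv_mem hb)
  have hl : ∀ a ∈ E, ∀ b ∈ E, ∀ b' ∈ E, ⁅a, b * b'⁆ = ⁅a, b⁆ * ⁅a, b'⁆ := fun a ha b hb b' hb' => by
    rw [show ⁅a, b * b'⁆ = ⁅a, b⁆ * (b * ⁅a, b'⁆ * b⁻¹) by simp only [commutatorElement_def]; group,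
      ← (hcen a ha b' hb' b hb).eq, mul_inv_cancel_right]
  have hsq : ∀ a ∈ E, ∀ b ∈ E, ⁅a, b⁆ * ⁅a, b⁆ = 1 := by
    intro a ha b hb
    induction hb using closure_induction with
    | mem y hy =>
      have hyE : y ∈ E := subset_closure hy
      have hy2 : y * y = 1 := by
        rcases hgen y hy with rfl | ⟨r, -, -, hr, rfl⟩
        · exact mul_one 1
        · exact hr.sq
      rw [← hl a ha _ hyE _ hyE, hy2, commutatorElement_one_right]
    | one => rw [commutatorElement_one_right, one_mul]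
    | mul s t hs ht ihs iht =>
      rw [hl a ha s hs t ht, (hcen a ha t ht _ (hcE a ha s hs)).mul_mul_mul_comm, ihs, iht,
        one_mul]
    | inv s hs ihs =>
      have h : ⁅a, s⁻¹⁆ = ⁅a, s⁆⁻¹ := by
        refine eq_inv_of_mul_eq_one_left ?_
        rw [← hl a ha _ (inv_mem hs) s hs, inv_mul_cancel, commutatorElement_one_right]
      rw [h, ← mul_inv_rev, ihs, inv_one]
  refine commutatorElement_eq_one_iff_mul_comm.1 ?_
  rw [hl e he a ha a ha, hsq e he a ha]

/-- No element is a root of a nontrivial involution with a plane root. -/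
theorem false_of_root {r₀ : MulAut M} (hr₀ : PlaneTop Y r₀) (h1 : r₀ ^ 2 ≠ 1) {e : MulAut M}
    (he : e ∈ closure s) (hee : e * e = r₀ ^ 2) : False := by
  set N := negPart (r₀ ^ 2) with hN
  have hsign : ∀ w ∈ closure s, (∀ v ∈ N, w v = v) ∨ ∀ v ∈ N, w v = v⁻¹ := by
    intro w hw
    induction hw using closure_induction with
    | mem y hy =>
      have hyE : y ∈ closure s := subset_closure hy
      have hy2 : y * y = 1 := by
        rcases hgen y hy with rfl | ⟨r, -, -, hr, rfl⟩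
        · exact mul_one 1
        · exact hr.sq
      have hc : Commute y (r₀ ^ 2) := hee ▸ commute_mul_self hM hEY hE hgen he hyE
      exact hr₀.rule y (hEY hyE) (fun v hv => mem_negPart_of_commute hc hv)
        fun v _ => by rw [← MulAut.mul_apply, hy2, MulAut.one_apply]
    | one => exact .inl fun v _ => rfl
    | mul a b _ _ iha ihb =>
      rcases iha with ha | ha <;> rcases ihb with hb | hb
      · exact .inl fun v hv => by rw [MulAut.mul_apply, hb v hv, ha v hv]
      · exact .inr fun v hv => by rw [MulAut.mul_apply, hb v hv, map_inv, ha v hv]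
      · exact .inr fun v hv => by rw [MulAut.mul_apply, hb v hv, ha v hv]
      · exact .inl fun v hv => by rw [MulAut.mul_apply, hb v hv, map_inv, ha v hv, inv_inv]
    | inv a _ iha =>
      rcases iha with ha | ha
      · exact .inl fun v hv => by
          conv_lhs => rw [← ha v hv]
          exact MulAut.inv_apply_self _ a v
      · exact .inr fun v hv => by
          refine a.injective ?_
          rw [MulAut.apply_inv_self, ha v⁻¹ (inv_mem hv) |>.trans (inv_inv v)]
  refine h1 (eq_one_of_negPart_eq_bot hM hr₀.sq (eq_bot_iff.2 fun v hv => mem_bot.2 ?_))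
  refine eq_one_of_neg_pos hM hv ?_
  rw [← hee, MulAut.mul_apply]
  rcases hsign e he with h | h
  · rw [h v hv, h v hv]
  · rw [h v hv, map_inv, h v hv, inv_inv]

end CfsgLib.Solvable.TwoLengthDerived
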