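import Cfsg.Agent.Lib.Solvable.TwoLengthDerived.DeepReduce
import Cfsg.Agent.Lib.Solvable.TwoLengthDerived.TopGroup

/-!
# The group generated by the conjugates of the last derived subgroup

`S` is a two-group whose chains of length `k + 2` vanish, normalising `R`. Inside `R` the conjugates
under the normaliser of `R` of the last but one derived subgroup generate a group; its elements in the
derived subgroup of depth `k` commute with that derived subgroup.
-/

set_option autoImplicit false

namespace CfsgLib.Solvable.TwoLengthDerived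

open Subgroup CfsgLib CfsgLib.Solvable.FPFOperators CfsgLib.Solvable.TwoLengthExp
open scoped commutatorElement

universe u v w

variable {H : Type u} [Group H]

/-- The conjugates in `R` of the elements of `R` in a derived subgroup. -/
def layerGens (S R : Subgroup H) (n : ℕ) : Set H :=
  {c | ∃ g ∈ normalizer (R : Set H), ∃ a ∈ dser S n, a ∈ R ∧ g * a * g⁻¹ = c}

/-- The group they generate. -/
def layerGroup (S R : Subgroup H) (n : ℕ) : Subgroup H := closure (layerGens S R n)

theorem layerGroup_le (S R : Subgroup H) (n : ℕ) : layerGroup S R n ≤ R := by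
  rw [layerGroup, closure_le]
  rintro _ ⟨g, hg, a, -, haR, rfl⟩
  exact (mem_normalizer_iff.1 hg a).1 haR

theorem normalizer_le_layerGroup (S R : Subgroup H) (n : ℕ) :
    normalizer (R : Set H) ≤ normalizer (layerGroup S R n : Set H) := by
  refine le_normalizer_iff.2 fun g hg => ?_
  intro y hy
  have h : (layerGroup S R n).map (MulAut.conj g).toMonoidHom ≤ layerGroup S R n := by
    rw [layerGroup, MonoidHom.map_closure, closure_le]
    rintro _ ⟨_, ⟨g', hg', a, ha, haR, rfl⟩, rfl⟩
    refine subset_closure ⟨g * g', mul_mem hg hg', a, ha, haR, ?_⟩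
    rw [MulEquiv.coe_toMonoidHom, MulAut.conj_apply]
    group
  exact h ⟨y, hy, rfl⟩

theorem mem_layerGroup {S R : Subgroup H} {n : ℕ} {a : H} (ha : a ∈ dser S n) (haR : a ∈ R) :
    a ∈ layerGroup S R n :=
  subset_closure ⟨1, one_mem _, a, ha, haR, by group⟩

/-- The image of a closure of elements of a subgroup. -/
theorem map_subgroupOf_closure {Δ : Type*} [Group Δ] {St : Subgroup H} {s : Set H}
    (hs : closure s ≤ St) (f : St →* Δ) :
    ((closure s).subgroupOf St).map f = closure (f '' {x : St | (x : H) ∈ s}) := by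
  refine le_antisymm ?_ ((closure_le _).2 ?_)
  · rintro _ ⟨⟨a, haSt⟩, ha, rfl⟩
    change a ∈ closure s at ha
    induction ha using closure_induction with
    | mem w hw => exact subset_closure ⟨⟨w, haSt⟩, hw, rfl⟩
    | one => rw [show (⟨1, haSt⟩ : St) = 1 from rfl, map_one]; exact one_mem _
    | mul x y hx hy ihx ihy =>
      rw [show (⟨x * y, haSt⟩ : St) = ⟨x, hs hx⟩ * ⟨y, hs hy⟩ from rfl, map_mul]
      exact mul_mem (ihx _) (ihy _)
    | inv x hx ih =>
      rw [show (⟨x⁻¹, haSt⟩ : St) = (⟨x, hs hx⟩ : St)⁻¹ from rfl, map_inv]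
      exact inv_mem (ih _)
  · rintro _ ⟨x, hx, rfl⟩
    exact mem_map_of_mem f (show (x : H) ∈ closure s from subset_closure hx)

variable [Finite H] {K : Type v} [Field K] [IsAlgClosed K] [CharP K 2] {W : Type w} [AddCommGroup W]
  [Module K W] [FiniteDimensional K W]

/-- The key commutation. -/
theorem commutatorElement_eq_one_of_dser [Group.IsSolvable H] (hcore : Cfsg.pCore 2 H = ⊥)
    (ρ : H →* Module.End K W) (hinj : Function.Injective ρ) {S R : Subgroup H} (hS : IsPGroup 2 S)
    (hRS : R ≤ S) (hSR : S ≤ normalizer (R : Set H)) {k : ℕ} (hch : ChainZero ρ S (k + 2)) {y e' : H}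
    (hy : y ∈ dser S k) (he' : e' ∈ dser S k) (heE : e' ∈ layerGroup S R (k + 1)) : ⁅y, e'⁆ = 1 := by
  classical
  haveI : Fact (Nat.Prime 2) := ⟨Nat.prime_two⟩
  set c := ⁅y, e'⁆ with hc
  have hcS : c ∈ dser S (k + 1) := commutator_mem_commutator hy he'
  obtain ⟨i, hi⟩ := hS ⟨c, dser_le S _ hcS⟩
  have hck : c ^ 2 ^ i = 1 := congrArg Subtype.val hi
  refine TwoLength.eq_one_of_centralizes_cores hcore hck fun q hq hq2 => ?_
  haveI := Fact.mk hq
  set O := Cfsg.pCore q H with hO
  haveI : O.Normal := Cores.pCore_normal q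
  obtain ⟨C₀, hchar, hC2, hcrit⟩ :=
    PGroup.CoprimeFix.exists_critical (Cores.isPGroup_pCore (G := H) q)
  haveI := hchar
  set C := C₀.map O.subtype with hCdef
  haveI hCn : C.Normal := ConjAct.normal_of_characteristic_of_normal
  set Z := C ⊓ centralizer (C : Set H) with hZdef
  haveI : Z.Normal := inferInstance
  haveI : Fintype Z := Fintype.ofFinite Z
  have hCp : IsPGroup q C := ((Cores.isPGroup_pCore q).to_subgroup C₀).map O.subtype
  have hqK : (q : K) ≠ 0 := fun h0 =>
    hq2 ((Nat.prime_dvd_prime_iff_eq Nat.prime_two hq).1 ((CharP.cast_eq_zero_iff K 2 _).1 h0)).symm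
  have hZc : ∀ z ∈ Z, ∀ y ∈ C, y * z = z * y := fun z hz y hy => mem_centralizer_iff.1 hz.2 y hy
  have hcomm : ∀ x ∈ C, ∀ y ∈ C, ⁅x, y⁆ ∈ Z := by
    intro x hx y hy
    refine ⟨(commutator_le_right C C) (commutator_mem_commutator hx hy),
      mem_centralizer_iff.2 fun w hw => ?_⟩
    obtain ⟨x', hx', rfl⟩ := hx
    obtain ⟨y', hy', rfl⟩ := hy
    obtain ⟨w', hw', rfl⟩ := hw
    rw [← map_commutatorElement, ← map_mul, ← map_mul, (hC2.comm x' hx' y' hy' w' hw').eq]
  have hZcomm : IsMulCommutative Z :=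
    isMulCommutative_iff.2 fun x o => Subtype.ext (hZc o o.2 x x.2.1)
  have hZK : (Fintype.card Z : K) ≠ 0 := by
    rw [← Nat.card_eq_fintype_card]; exact natCard_cast_ne_zero (hCp.to_le inf_le_left) hqK
  -- the last derived subgroup centralises the centre
  have hcenZ : ∀ {P : Subgroup H}, IsPGroup 2 P → ChainZero ρ P (k + 2) →
      ∀ a ∈ dser P (k + 1), ∀ z ∈ Z, a * z = z * a := by
    intro P hP hPch a ha z hz
    have hmem : a * z * a⁻¹ ∈ Z := (inferInstance : Z.Normal).conj_mem z hz a
    have h1 : ρ (a * z * a⁻¹) = ρ z := eq_of_forall_mul_weightIdem (K := K) ρ hZcomm hZK fun l hl => by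
      have hfix : a • l = l := ChainZero.dser_le_stabilizer hP hZK hPch l hl ha
      have h2 : l ⟨a * z * a⁻¹, hmem⟩ = l ⟨z, hz⟩ := by
        conv_lhs => rw [← hfix, dual_smul_apply]
        refine congrArg l (Subtype.ext ?_)
        rw [MulAut.conjNormal_apply]
        group
      rw [show a * z * a⁻¹ = ((⟨a * z * a⁻¹, hmem⟩ : Z) : H) from rfl, map_mem_mul_weightIdem,
        map_mem_mul_weightIdem ρ l ⟨z, hz⟩, h2]
    exact mul_inv_eq_iff_eq_mul.1 (hinj h1)
  have hconjS : ∀ g : H, IsPGroup 2 (S.map (MulAut.conj g).toMonoidHom) := fun g => hS.map _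
  set E := layerGroup S R (k + 1) with hE
  have hEZ : ∀ a ∈ E, ∀ z ∈ Z, Commute a z := by
    intro a ha z hz
    change a ∈ Subgroup.closure _ at ha
    induction ha using closure_induction with
    | mem w hw =>
      obtain ⟨g, -, a, ha, -, rfl⟩ := hw
      exact hcenZ (hconjS g) (hch.conj g) _
        (map_dser (MulAut.conj g).toMonoidHom S (k + 1) ▸ mem_map_of_mem _ ha) z hz
    | one => exact Commute.one_left z
    | mul a b _ _ ha hb => exact ha.mul_left hb
    | inv a _ ha => exact ha.inv_left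
  have hblock : ∀ l : Z →* Kˣ, ∀ y' ∈ C, ∀ x ∈ C,
      ρ (⁅c, y'⁆ * x) * weightIdem Z ρ l = ρ (x * ⁅c, y'⁆) * weightIdem Z ρ l := by
    intro l y' hy' x hx
    by_cases hl : weightIdem Z ρ l = 0
    · rw [hl, mul_zero, mul_zero]
    set e := weightIdem Z ρ l with he
    set St := MulAction.stabilizer H l with hSt
    have hmemSt : ∀ {g : H}, g ∈ St ↔ g • l = l := Iff.rfl
    have hCSt : C ≤ St := fun o ho =>
      hmemSt.2 (dual_smul_eq_self_of_commute l fun z hz => hZc z hz o ho)
    have hESt : E ≤ St := fun o ho =>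
      hmemSt.2 (dual_smul_eq_self_of_commute l fun z hz => (hEZ o ho z hz).eq)
    have hcSt : c ∈ St := ChainZero.dser_le_stabilizer hS hZK hch l hl hcS
    set V := LinearMap.range e with hV
    have hVinv : ∀ g ∈ St, ∀ v ∈ V, ρ g v ∈ V := by
      rintro g hg _ ⟨v, rfl⟩
      refine ⟨ρ g v, ?_⟩
      rw [← Module.End.mul_apply, ← Module.End.mul_apply, he, map_mul_weightIdem_smul, hmemSt.1 hg]
    obtain ⟨Γ', _, _, ρ', f, hf, hρ', hsys⟩ := exists_sys hq2 ρ hCSt
      (by rw [normalizer_eq_top]; exact le_top) hCp V hVinv fun a ha b hb => by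
        refine ⟨(l ⟨⁅a, b⁆, hcomm a ha b hb⟩ : K), ?_⟩
        rintro _ ⟨v, rfl⟩
        rw [← Module.End.mul_apply, he, ← LinearMap.smul_apply,
          map_mem_mul_weightIdem ρ l ⟨⁅a, b⁆, hcomm a ha b hb⟩]
    set C' := (C.subgroupOf St).map f with hC'
    haveI : C'.Normal := hsys.normal
    set φ : St →* MulAut (Quo C') := (act C').comp f with hφ
    have hM := hsys.quo_odd
    -- one conjugate of `S`
    have htri : ∀ {P : Subgroup H}, IsPGroup 2 P → ChainZero ρ P (k + 2) →
        (∀ a ∈ dser P (k + 1), ∀ ha : a ∈ St, φ ⟨a, ha⟩ = 1) ∨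
        (dser P k ≤ St ∧ ChainZero ρ' (((dser P k).subgroupOf St).map f) 2) := by
      intro P hP hPch
      have hex : ∃ j, dser P j ≤ St :=
        ⟨k + 1, ChainZero.dser_le_stabilizer hP hZK hPch l hl⟩
      set j := Nat.find hex with hjdef
      have hj : dser P j ≤ St := Nat.find_spec hex
      have hjk : j ≤ k + 1 := Nat.find_min' hex (ChainZero.dser_le_stabilizer hP hZK hPch l hl)
      have hmin : ∀ t < j, ¬ dser P t ≤ St := fun t ht => Nat.find_min hex ht
      obtain ⟨n, hn⟩ : ∃ n, k + 2 = j + n := ⟨k + 2 - j, by omega⟩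
      set T := ((dser P j).subgroupOf St).map f with hT
      have hTch : ChainZero ρ' T n := chainZero_sys hj hρ' fun g hg => by
        rintro _ ⟨v, rfl⟩
        rw [← Module.End.mul_apply, ChainZero.restrict hP hZK l (hn ▸ hPch) hmin hj hg]
        rfl
      have hmemT : ∀ (i : ℕ), ∀ a ∈ dser P (j + i), ∀ ha : a ∈ St, f ⟨a, ha⟩ ∈ dser T i := by
        intro i a ha haSt
        rw [hT, ← map_dser]
        refine mem_map_of_mem f ?_
        rw [← mem_map_iff_mem St.subtype_injective, map_dser, map_subgroupOf_eq_of_le hj, dser_dser]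
        exact ha
      have hTp : IsPGroup 2 T :=
        ((hP.to_le (dser_le P j)).of_equiv (subgroupOfEquivOfLe hj).symm).map f
      rcases Nat.lt_or_ge n 2 with hn2 | hn2
      · left
        intro a ha haSt
        obtain rfl : n = 1 := by omega
        have h1 := hTch _ (isChain_succ ρ' (n := 0)
          (hmemT 0 a (by rw [show j + 0 = k + 1 by omega]; exact ha) haSt) rfl)
        rw [mul_one, sub_eq_zero] at h1
        rw [hφ, MonoidHom.comp_apply, hsys.inj (h1.trans ρ'.map_one.symm), map_one]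
      rcases Nat.lt_or_ge n 3 with hn3 | hn3
      · right
        obtain rfl : n = 2 := by omega
        obtain rfl : k = j := by omega
        exact ⟨hj, hTch⟩
      · left
        intro a ha haSt
        obtain ⟨k', rfl⟩ : ∃ k', n = k' + 3 := ⟨n - 3, by omega⟩
        exact hsys.act_eq_one_of_dser hTp hTch
          (hmemT (k' + 2) a (by rw [show j + (k' + 2) = k + 1 by omega]; exact ha) haSt)
    have hTp : ∀ {P : Subgroup H}, IsPGroup 2 P → dser P k ≤ St →
        IsPGroup 2 (((dser P k).subgroupOf St).map f) := fun hP hj =>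
      ((hP.to_le (dser_le _ k)).of_equiv (subgroupOfEquivOfLe hj).symm).map f
    have hmem1 : ∀ {P : Subgroup H}, dser P k ≤ St → ∀ a ∈ dser P (k + 1), ∀ ha : a ∈ St,
        f ⟨a, ha⟩ ∈ dser (((dser P k).subgroupOf St).map f) 1 := by
      intro P hj a ha haSt
      rw [← map_dser]
      refine mem_map_of_mem f ?_
      rw [← mem_map_iff_mem St.subtype_injective, map_dser, map_subgroupOf_eq_of_le hj, dser_dser]
      exact ha
    -- a root gives a plane top
    have hplane : ∀ {r : Γ'}, act C' (r * r) * act C' (r * r) = 1 → q = 3 →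
        Nat.card (negPart (act C' (r * r))) = 9 → PlaneTop φ.range (act C' r) := by
      intro r hr4 hq3 hcard
      refine planeTop_of_form (q := q) hM hsys.form hsys.form_mul_right hsys.form_skew hsys.form_self
        hsys.form_nondeg ?_ ?_ ?_ (by rw [hq3]) ?_
      · rintro _ ⟨t, rfl⟩ u v
        exact hsys.form_act (f t) u v
      · obtain ⟨t, rfl⟩ := hf r
        exact ⟨t, rfl⟩
      · rw [← map_pow, pow_two]; exact hr4
      · rw [← map_pow, pow_two, hcard, hq3]
    -- the generators
    set s := φ '' {x : St | (x : H) ∈ layerGens S R (k + 1)} with hs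
    have hsE : (E.subgroupOf St).map φ = closure s := map_subgroupOf_closure hESt φ
    have hgen : ∀ z ∈ s, z = 1 ∨ ∃ r ∈ φ.range,
        r ∈ normalizer (closure s : Set (MulAut (Quo C'))) ∧ PlaneTop φ.range r ∧ r ^ 2 = z := by
      rintro _ ⟨⟨_, hzSt⟩, ⟨g, hg, a, ha, -, rfl⟩, rfl⟩
      set P := S.map (MulAut.conj g).toMonoidHom with hP
      have haP : g * a * g⁻¹ ∈ dser P (k + 1) :=
        map_dser (MulAut.conj g).toMonoidHom S (k + 1) ▸ mem_map_of_mem _ ha
      rcases htri (hconjS g) (hch.conj g) with h1 | ⟨hj, hTch⟩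
      · exact .inl (h1 _ haP _)
      by_cases h1 : φ ⟨g * a * g⁻¹, hzSt⟩ = 1
      · exact .inl h1
      obtain ⟨a', ha', ha'2, ha'1, hca', hall, hq3, hcard, r, hr, hra⟩ :=
        hsys.exists_root (hTp (hconjS g) hj) hTch ⟨_, hmem1 hj _ haP hzSt, h1⟩
      have hx : f ⟨g * a * g⁻¹, hzSt⟩ = a' := by
        have hxT := hmem1 hj _ haP hzSt
        rcases hall _ (dser_le _ 1 hxT) with e | e | e
        · exact absurd (by rw [hφ, MonoidHom.comp_apply, e, map_one]) h1
        · exact e
        · rw [hsys.mul_self_eq_one (hTch.quadratic hxT hxT)] at e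
          exact absurd (by rw [← e, map_one]) ha'1
      obtain ⟨p, hp, rfl⟩ := hr
      refine .inr ⟨φ p, ⟨p, rfl⟩, ?_, ?_, ?_⟩
      · have hpP : (p : H) ∈ P := dser_le P k hp
        have hPR : P ≤ normalizer (R : Set H) := by
          rintro _ ⟨u, hu, rfl⟩
          exact mul_mem (mul_mem hg (hSR hu)) (inv_mem hg)
        have hpE := normalizer_le_layerGroup S R (k + 1) (hPR hpP)
        have hpn : p ∈ normalizer (E.subgroupOf St : Set St) :=
          mem_normalizer_iff.2 fun u => mem_normalizer_iff.1 hpE u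
        rw [← hsE]
        exact le_normalizer_map φ (mem_map_of_mem φ hpn)
      · exact hplane (by rw [hra, ← map_mul, ha'2, map_one]) hq3 (hra ▸ hcard)
      · rw [hφ, MonoidHom.comp_apply, MonoidHom.comp_apply, ← map_pow, pow_two, hra, hx]
    have hφc : φ ⟨c, hcSt⟩ = 1 := by
      rcases htri hS hch with h1 | ⟨hj, hTch⟩
      · exact h1 c hcS hcSt
      by_contra hne
      obtain ⟨a', ha', ha'2, ha'1, hca', hall, hq3, hcard, r, hr, hra⟩ :=
        hsys.exists_root (hTp hS hj) hTch ⟨_, hmem1 hj c hcS hcSt, hne⟩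
      have hyT : f ⟨y, hj hy⟩ ∈ ((dser S k).subgroupOf St).map f := mem_map_of_mem f hy
      have hfc : f ⟨c, hcSt⟩ = ⁅f ⟨y, hj hy⟩, f ⟨e', hj he'⟩⁆ := by
        rw [← map_commutatorElement]; rfl
      rcases hall (f ⟨e', hj he'⟩) (mem_map_of_mem f he') with e0 | e0 | e0
      · exact hne (by rw [hφ, MonoidHom.comp_apply, hfc, e0, commutatorElement_one_right, map_one])
      · exact hne (by
          rw [hφ, MonoidHom.comp_apply, hfc, e0, commutatorElement_eq_one_iff_mul_comm.2
            (hca' _ hyT).eq, map_one])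
      · refine false_of_root hM (Y := φ.range) (s := s) ?_ ?_ hgen (r₀ := act C' r)
          (hplane (by rw [hra, ← map_mul, ha'2, map_one]) hq3 (hra ▸ hcard)) ?_
          (e := φ ⟨e', hj he'⟩) ?_ ?_
        · rw [← hsE]
          rintro _ ⟨u, -, rfl⟩
          exact ⟨u, rfl⟩
        · rw [← hsE]
          exact ((hS.to_le ((layerGroup_le S R (k + 1)).trans hRS)).of_equiv
            (subgroupOfEquivOfLe hESt).symm).map φ
        · rw [← map_pow, pow_two, hra]; exact ha'1
        · rw [← hsE]; exact mem_map_of_mem φ heE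
        · rw [hφ, MonoidHom.comp_apply, ← map_pow, pow_two, hra, ← map_mul, e0]
    -- back to the module
    set c' : St := ⟨c, hcSt⟩ with hc'
    set y₁ : St := ⟨y', hCSt hy'⟩ with hy₁
    set x₁ : St := ⟨x, hCSt hx⟩ with hx₁
    let u : C' := ⟨f y₁, mem_map_of_mem f (show y₁ ∈ C.subgroupOf St from hy')⟩
    have h1 : cls C' (MulAut.conjNormal (f c') u * u⁻¹) = 1 := by
      rw [map_mul, map_inv, ← act_cls, show act C' (f c') = 1 from hφc, MulAut.one_apply,
        mul_inv_cancel]
    have h2 := hsys.cls_eq_one.1 h1 (f x₁) (mem_map_of_mem f (show x₁ ∈ C.subgroupOf St from hx))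
    rw [Subgroup.coe_mul, MulAut.conjNormal_apply, InvMemClass.coe_inv] at h2
    have h3 : f (⁅c', y₁⁆ * x₁) = f (x₁ * ⁅c', y₁⁆) := by
      rw [map_mul, map_mul, map_commutatorElement, commutatorElement_def]
      exact h2
    refine LinearMap.ext fun v => ?_
    rw [Module.End.mul_apply, Module.End.mul_apply]
    have hv : e v ∈ V := ⟨v, rfl⟩
    have h4 := congrArg (fun g : Γ' => ((ρ' g ⟨e v, hv⟩ : V) : W)) h3
    simp only [hρ'] at h4
    exact h4
  -- detection
  have hmain : ∀ o ∈ C, c * o = o * c := by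
    intro o ho
    have hoC : ⁅c, o⁆ ∈ C := commutator_mem_of_normal hCn _ ho
    have hmem : ⁅c, o⁆ ∈ Z := by
      refine ⟨hoC, mem_centralizer_iff.2 fun x hx => hinj ?_⟩
      exact eq_of_forall_mul_weightIdem ρ hZcomm hZK fun l _ => (hblock l o ho x hx).symm
    rw [← commutatorElement_eq_one_iff_mul_comm]
    refine eq_one_of_commute_commutator (p := 2 ^ i) hck (hcenZ hS hch c hcS _ hmem) ?_
    obtain ⟨b, hb⟩ := hCp ⟨_, hoC⟩
    exact (((Nat.coprime_primes hq Nat.prime_two).2 hq2).pow b i).coprime_dvd_left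
      (orderOf_dvd_of_pow_eq_one (congrArg Subtype.val hb))
  have hcO : c ∈ normalizer (O : Set H) := by rw [normalizer_eq_top]; trivial
  set g := O.normalizerMonoidHom ⟨c, hcO⟩ with hg
  have hgord : (orderOf g).Coprime q :=
    (((Nat.coprime_primes Nat.prime_two hq).2 hq2.symm).pow_left i).coprime_dvd_left
      ((orderOf_map_dvd _ _).trans (orderOf_dvd_of_pow_eq_one (Subtype.ext hck)))
  have hg1 : g = 1 := hcrit g hgord fun x hx => Subtype.ext (by
    show c * (x : H) * c⁻¹ = x
    rw [mul_inv_eq_iff_eq_mul]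
    exact hmain _ (mem_map_of_mem O.subtype hx))
  refine mem_centralizer_iff.2 fun w hw => ?_
  have h' : c * w * c⁻¹ = w := congrArg Subtype.val (DFunLike.congr_fun hg1 (⟨w, hw⟩ : O))
  exact (mul_inv_eq_iff_eq_mul.1 h').symm

end CfsgLib.Solvable.TwoLengthDerived
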