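import Mathlib
import Cfsg.Agent.Lib.Solvable.FPFOperators.Weights
import Cfsg.Agent.Lib.PGroup.Kulakoff
import Cfsg.Agent.Lib.Solvable.FrattiniFitting

/-!
# Chains of displacements along a derived series

`IsChain ρ T n f` says that `f = (ρ x_{n-1} - 1) * ... * (ρ x_0 - 1)` with `x_i` in the `i`-th derived
subgroup of `T`. If all chains of length `n` vanish, the `n - 1`-st derived subgroup is quadratic; and
on a system of weights permuted by `T` a chain can only vanish if some derived subgroup fixes a weight.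
-/

set_option autoImplicit false

namespace CfsgLib.Solvable.TwoLengthDerived

open Subgroup CfsgLib.Solvable.FPFOperators
open scoped commutatorElement

section Series

variable {Γ : Type*} [Group Γ]

/-- The derived series of a subgroup, inside the ambient group. -/
def dser (T : Subgroup Γ) : ℕ → Subgroup Γ
  | 0 => T
  | n + 1 => ⁅dser T n, dser T n⁆

theorem dser_succ_le (T : Subgroup Γ) (n : ℕ) : dser T (n + 1) ≤ dser T n :=
  commutator_le.2 fun a ha b hb => by
    rw [commutatorElement_def]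
    exact mul_mem (mul_mem (mul_mem ha hb) (inv_mem ha)) (inv_mem hb)

theorem dser_antitone (T : Subgroup Γ) : Antitone (dser T) :=
  antitone_nat_of_succ_le (dser_succ_le T)

theorem dser_le (T : Subgroup Γ) (n : ℕ) : dser T n ≤ T := dser_antitone T n.zero_le

theorem dser_dser (T : Subgroup Γ) (i : ℕ) : ∀ j, dser (dser T i) j = dser T (i + j)
  | 0 => rfl
  | j + 1 => by
    show ⁅dser (dser T i) j, dser (dser T i) j⁆ = ⁅dser T (i + j), dser T (i + j)⁆
    rw [dser_dser T i j]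

theorem map_dser {Γ' : Type*} [Group Γ'] (f : Γ →* Γ') (T : Subgroup Γ) :
    ∀ n, (dser T n).map f = dser (T.map f) n
  | 0 => rfl
  | n + 1 => by
    show (⁅dser T n, dser T n⁆).map f = ⁅dser (T.map f) n, dser (T.map f) n⁆
    rw [map_commutator, map_dser f T n]

theorem dser_eq_map_derivedSeries (T : Subgroup Γ) :
    ∀ n, dser T n = (derivedSeries T n).map T.subtype
  | 0 => by
    rw [derivedSeries_zero, ← MonoidHom.range_eq_map, range_subtype]
    rfl
  | n + 1 => by
    rw [derivedSeries_succ, map_commutator, ← dser_eq_map_derivedSeries T n]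
    rfl

theorem normalizer_le_dser (T : Subgroup Γ) :
    ∀ n, normalizer (T : Set Γ) ≤ normalizer (dser T n : Set Γ)
  | 0 => le_rfl
  | n + 1 => fun g hg => by
    have h := normalizer_le_dser T n hg
    rw [mem_normalizer_iff_map_conj_eq] at h ⊢
    show (⁅dser T n, dser T n⁆).map _ = ⁅dser T n, dser T n⁆
    rw [map_commutator, h]

end Series

section Chains

variable {Γ : Type*} [Group Γ] {A : Type*} [Ring A] (ρ : Γ →* A)

/-- A product of displacements along the derived series. -/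
def IsChain (T : Subgroup Γ) : ℕ → A → Prop
  | 0, f => f = 1
  | n + 1, f => ∃ x ∈ dser T n, ∃ g, IsChain T n g ∧ f = (ρ x - 1) * g

/-- All chains of length `n` vanish. -/
def ChainZero (T : Subgroup Γ) (n : ℕ) : Prop := ∀ f, IsChain ρ T n f → f = 0

theorem isChain_succ {T : Subgroup Γ} {n : ℕ} {x : Γ} (hx : x ∈ dser T n) {g : A}
    (hg : IsChain ρ T n g) : IsChain ρ T (n + 1) ((ρ x - 1) * g) := ⟨x, hx, g, hg, rfl⟩

/-- A left annihilator of all chains kills the derived subgroup. -/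
theorem mul_sub_one_eq_zero {T : Subgroup Γ} :
    ∀ (n : ℕ) (Q : A), (∀ f, IsChain ρ T n f → Q * f = 0) → ∀ y ∈ dser T n, Q * (ρ y - 1) = 0
  | 0, Q, hQ, y, _ => by
    have h : Q = 0 := by simpa using hQ 1 rfl
    rw [h, zero_mul]
  | n + 1, Q, hQ, y, hy => by
    have hpair : ∀ x ∈ dser T n, ∀ x' ∈ dser T n, Q * (ρ x - 1) * (ρ x' - 1) = 0 :=
      fun x hx x' hx' => mul_sub_one_eq_zero n (Q * (ρ x - 1)) (fun f hf => by
        rw [mul_assoc]; exact hQ _ (isChain_succ ρ hx hf)) x' hx'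
    change y ∈ Subgroup.closure _ at hy
    induction hy using closure_induction with
    | mem w hw =>
      obtain ⟨x, hx, x', hx', rfl⟩ := hw
      have e1 : Q * (ρ (x * x') - ρ (x' * x)) = 0 := by
        have e : ρ (x * x') - ρ (x' * x) =
            (ρ x - 1) * (ρ x' - 1) - (ρ x' - 1) * (ρ x - 1) := by
          rw [map_mul, map_mul]; noncomm_ring
        rw [e, mul_sub, ← mul_assoc, ← mul_assoc, hpair x hx x' hx', hpair x' hx' x hx, sub_zero]
      have e2 : ρ ⁅x, x'⁆ - 1 = (ρ (x * x') - ρ (x' * x)) * ρ (x' * x)⁻¹ := by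
        rw [sub_mul, ← map_mul, ← map_mul, mul_inv_cancel, map_one]
        congr 2
        rw [commutatorElement_def]; group
      rw [e2, ← mul_assoc, e1, zero_mul]
    | one => rw [map_one, sub_self, mul_zero]
    | mul u v _ _ hu hv =>
      have e : ρ (u * v) - 1 = (ρ u - 1) * ρ v + (ρ v - 1) := by rw [map_mul]; noncomm_ring
      rw [e, mul_add, ← mul_assoc, hu, zero_mul, zero_add, hv]
    | inv u _ hu =>
      have e : ρ u⁻¹ - 1 = -((ρ u - 1) * ρ u⁻¹) := by
        rw [sub_mul, ← map_mul, mul_inv_cancel, map_one, one_mul, neg_sub]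
      rw [e, mul_neg, ← mul_assoc, hu, zero_mul, neg_zero]

variable {ρ}

/-- The last derived subgroup is quadratic. -/
theorem ChainZero.quadratic {T : Subgroup Γ} {n : ℕ} (h : ChainZero ρ T (n + 1)) {a b : Γ}
    (ha : a ∈ dser T n) (hb : b ∈ dser T n) : (ρ a - 1) * (ρ b - 1) = 0 :=
  mul_sub_one_eq_zero ρ n _ (fun f hf => h _ (isChain_succ ρ ha hf)) b hb

theorem ChainZero.dser_eq_one {T : Subgroup Γ} {n : ℕ} (h : ChainZero ρ T n) {y : Γ}
    (hy : y ∈ dser T n) : ρ y = 1 := by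
  have h1 := mul_sub_one_eq_zero ρ n 1 (fun f hf => by rw [one_mul]; exact h f hf) y hy
  rwa [one_mul, sub_eq_zero] at h1

/-- The first factor of the last three. -/
theorem ChainZero.mul_mul {T : Subgroup Γ} {n : ℕ} (h : ChainZero ρ T (n + 2)) {a y y' : Γ}
    (ha : a ∈ dser T (n + 1)) (hy : y ∈ dser T n) (hy' : y' ∈ dser T n) :
    (ρ a - 1) * (ρ y - 1) * (ρ y' - 1) = 0 :=
  mul_sub_one_eq_zero ρ n _ (fun f hf => by
    rw [mul_assoc]; exact h _ (isChain_succ ρ ha (isChain_succ ρ hy hf))) y' hy'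

theorem IsChain.append {T : Subgroup Γ} {i : ℕ} {g : A} (hg : IsChain ρ T i g) :
    ∀ (j : ℕ) (f : A), IsChain ρ (dser T i) j f → IsChain ρ T (i + j) (f * g)
  | 0, f, hf => by
    rw [show f = 1 from hf, one_mul]
    exact hg
  | j + 1, f, hf => by
    obtain ⟨x, hx, f', hf', rfl⟩ := hf
    rw [mul_assoc]
    exact isChain_succ ρ (dser_dser T i j ▸ hx) (IsChain.append hg j f' hf')

theorem IsChain.of_map {Γ' : Type*} [Group Γ'] {A' : Type*} [Ring A'] {ρ' : Γ' →* A'} (f : Γ →* Γ')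
    (P : A → A' → Prop) (h1 : P 1 1)
    (hstep : ∀ x g g', P g g' → P ((ρ x - 1) * g) ((ρ' (f x) - 1) * g')) {T : Subgroup Γ} :
    ∀ (n : ℕ) (g' : A'), IsChain ρ' (T.map f) n g' → ∃ g, IsChain ρ T n g ∧ P g g'
  | 0, g', h => ⟨1, rfl, by rw [show g' = 1 from h]; exact h1⟩
  | n + 1, g', h => by
    obtain ⟨x', hx', g₀', hg₀', rfl⟩ := h
    rw [← map_dser] at hx'
    obtain ⟨x, hx, rfl⟩ := hx'
    obtain ⟨g, hg, hP⟩ := IsChain.of_map f P h1 hstep n g₀' hg₀'
    exact ⟨_, isChain_succ ρ hx hg, hstep x g g₀' hP⟩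

theorem IsChain.conj {T : Subgroup Γ} (u : Γ) : ∀ (n : ℕ) (f : A),
    IsChain ρ (T.map (MulAut.conj u).toMonoidHom) n f →
      ∃ g, IsChain ρ T n g ∧ f = ρ u * g * ρ u⁻¹ := fun n f hf => by
  refine IsChain.of_map (ρ' := ρ) (MulAut.conj u).toMonoidHom
    (fun g g' => g' = ρ u * g * ρ u⁻¹) ?_ (fun x g g' h => ?_) n f hf
  · rw [mul_one, ← map_mul, mul_inv_cancel, map_one]
  · have h1 : ρ u⁻¹ * ρ u = 1 := by rw [← map_mul, inv_mul_cancel, map_one]
    have h2 : ρ u * ρ u⁻¹ = 1 := by rw [← map_mul, mul_inv_cancel, map_one]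
    rw [h, MulEquiv.coe_toMonoidHom, MulAut.conj_apply, map_mul, map_mul]
    simp only [sub_mul, mul_sub, one_mul, mul_assoc]
    rw [← mul_assoc (ρ u⁻¹) (ρ u), h1, one_mul]

/-- Vanishing chains are preserved by conjugation. -/
theorem ChainZero.conj {T : Subgroup Γ} {n : ℕ} (h : ChainZero ρ T n) (u : Γ) :
    ChainZero ρ (T.map (MulAut.conj u).toMonoidHom) n := fun f hf => by
  obtain ⟨g, hg, rfl⟩ := IsChain.conj u n f hf
  rw [h g hg, mul_zero, zero_mul]

end Chains

section Orbits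

variable {Γ : Type*} [Group Γ] [Finite Γ] {K : Type*} [Field K] [CharP K 2] {A : Type*} [Ring A]
  [Algebra K A] (ρ : Γ →* A) {Z : Subgroup Γ} [Z.Normal] [Fintype Z]

/-- A two-group that moves a point moves it outside the orbit of its derived group. -/
theorem exists_smul_not_mem {Ω : Type*} [MulAction Γ Ω] {T : Subgroup Γ} (hT : IsPGroup 2 T) (l : Ω)
    (hmove : ¬ T ≤ MulAction.stabilizer Γ l) :
    ∃ x ∈ T, ∀ y ∈ ⁅T, T⁆, x • l ≠ y • l := by
  haveI : Fact (Nat.Prime 2) := ⟨Nat.prime_two⟩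
  by_contra hcon
  push Not at hcon
  refine hmove ?_
  set St := (MulAction.stabilizer Γ l).subgroupOf T with hSt
  have hsup : St ⊔ commutator T = ⊤ := by
    rw [eq_top_iff]
    intro x _
    obtain ⟨y, hy, hxy⟩ := hcon x x.2
    have hyT : y ∈ T := dser_succ_le T 0 hy
    have hyc : (⟨y, hyT⟩ : T) ∈ commutator T := by
      rw [← mem_map_iff_mem T.subtype_injective, map_subtype_commutator]
      exact hy
    have e : x = ⟨y, hyT⟩ * ((⟨y, hyT⟩ : T)⁻¹ * x) := by group
    rw [e]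
    refine mul_mem (mem_sup_right hyc) (mem_sup_left ?_)
    show y⁻¹ * (x : Γ) ∈ MulAction.stabilizer Γ l
    rw [MulAction.mem_stabilizer_iff, mul_smul, hxy, inv_smul_smul]
  have htop : St = ⊤ := frattini_nongenerating
    (eq_top_iff.2 (hsup ▸ sup_le_sup le_rfl (PGroup.Kulakoff.commutator_le_frattini hT)))
  exact subgroupOf_eq_top.1 htop

/-- As long as the derived subgroups move a weight, some chain survives on it. -/
theorem exists_isChain_proj {S : Subgroup Γ} (hS : IsPGroup 2 S) (hZ : (Fintype.card Z : K) ≠ 0)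
    (l : Z →* Kˣ) : ∀ j : ℕ, (∀ i < j, ¬ dser S i ≤ MulAction.stabilizer Γ l) →
    ∃ f, IsChain ρ S j f ∧ weightIdem Z ρ l * f * weightIdem Z ρ l = weightIdem Z ρ l ∧
      ∀ y ∈ dser S j, y • l ≠ l →
        weightIdem Z ρ (y • l) * f * weightIdem Z ρ l = 0
  | 0, _ => ⟨1, rfl, by rw [mul_one, weightIdem_mul_self ρ hZ], fun y _ hy => by
      rw [mul_one, weightIdem_orth ρ hy]⟩
  | j + 1, hmove => by
    classical
    obtain ⟨f, hf, hfl, hfo⟩ := exists_isChain_proj hS hZ l j fun i hi => hmove i (by omega)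
    obtain ⟨x, hx, hxo⟩ :=
      exists_smul_not_mem (hS.to_le (dser_le S j)) l (hmove j (by omega))
    set e := weightIdem Z ρ l with he
    have key : ∀ y ∈ dser S (j + 1), weightIdem Z ρ (y • l) * ((ρ x - 1) * f) * e =
        -(weightIdem Z ρ (y • l) * f * e) := by
      intro y hy
      have h1 : weightIdem Z ρ (y • l) * ρ x = ρ x * weightIdem Z ρ ((x⁻¹ * y) • l) := by
        rw [map_mul_weightIdem_smul ρ x, ← mul_smul, mul_inv_cancel_left]
      have h2 : weightIdem Z ρ ((x⁻¹ * y) • l) * f * e = 0 := by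
        refine hfo _ (mul_mem (inv_mem hx) (dser_succ_le S j hy)) fun h => hxo y hy ?_
        rw [mul_smul, inv_smul_eq_iff] at h
        exact h.symm
      calc weightIdem Z ρ (y • l) * ((ρ x - 1) * f) * e
          = weightIdem Z ρ (y • l) * ρ x * f * e - weightIdem Z ρ (y • l) * f * e := by
            rw [sub_mul, one_mul, mul_sub, sub_mul, ← mul_assoc]
        _ = -(weightIdem Z ρ (y • l) * f * e) := by
            rw [h1, mul_assoc (ρ x), mul_assoc (ρ x), h2, mul_zero, zero_sub]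
    refine ⟨_, isChain_succ ρ hx hf, ?_, fun y hy hyl => ?_⟩
    · have h := key 1 (one_mem _)
      rw [one_smul] at h
      rw [h, hfl, neg_eq_iff_add_eq_zero]
      calc e + e = ((2 : K)) • e := (two_smul K e).symm
        _ = 0 := by rw [CharTwo.two_eq_zero, zero_smul]
    · rw [key y hy, hfo y (dser_succ_le S j hy) hyl, neg_zero]

variable {ρ}

/-- The last derived subgroup fixes every weight. -/
theorem ChainZero.dser_le_stabilizer {S : Subgroup Γ} (hS : IsPGroup 2 S)
    (hZ : (Fintype.card Z : K) ≠ 0) {n : ℕ} (h : ChainZero ρ S (n + 1)) (l : Z →* Kˣ)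
    (hl : weightIdem Z ρ l ≠ 0) : dser S n ≤ MulAction.stabilizer Γ l := by
  by_contra hmove
  obtain ⟨f, hf, hfl, -⟩ := exists_isChain_proj ρ hS hZ l (n + 1) fun i hi hle =>
    hmove ((dser_antitone S (show i ≤ n by omega)).trans hle)
  rw [h f hf, mul_zero, zero_mul] at hfl
  exact hl hfl.symm

/-- Below the first derived subgroup fixing the weight the chains vanish on it. -/
theorem ChainZero.restrict {S : Subgroup Γ} (hS : IsPGroup 2 S) (hZ : (Fintype.card Z : K) ≠ 0)
    (l : Z →* Kˣ) {i j : ℕ} (h : ChainZero ρ S (i + j))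
    (hmove : ∀ t < i, ¬ dser S t ≤ MulAction.stabilizer Γ l)
    (hfix : dser S i ≤ MulAction.stabilizer Γ l) {f : A} (hf : IsChain ρ (dser S i) j f) :
    f * weightIdem Z ρ l = 0 := by
  set e := weightIdem Z ρ l with he
  obtain ⟨g, hg, hgl, -⟩ := exists_isChain_proj ρ hS hZ l i hmove
  have hcomm : ∀ (k : ℕ) (g' : A), IsChain ρ (dser S i) k g' → e * g' = g' * e := by
    intro k
    induction k with
    | zero =>
      intro g' h'
      rw [show g' = 1 from h', mul_one, one_mul]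
    | succ k ih =>
      rintro _ ⟨x, hx, g'', hg'', rfl⟩
      have hxe : ρ x * e = e * ρ x := by
        rw [he, map_mul_weightIdem_smul,
          MulAction.mem_stabilizer_iff.1 (hfix (dser_le _ k hx))]
      rw [← mul_assoc, mul_sub, mul_one, ← hxe, mul_assoc _ g'' e, ← ih g'' hg'', ← mul_assoc _ e,
        sub_mul (ρ x) 1 e, one_mul]
  have h0 := h _ (hg.append j f hf)
  calc f * e = f * (e * g * e) := by rw [hgl]
    _ = e * (f * g) * e := by
        rw [← mul_assoc e f g, hcomm j f hf, mul_assoc f e g, mul_assoc f (e * g)]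
    _ = 0 := by rw [h0, mul_zero, zero_mul]

end Orbits

section Fixed

variable {Γ : Type*} [Group Γ] [Finite Γ] {K : Type*} [Field K] [CharP K 2] {U : Type*}
  [AddCommGroup U] [Module K U]

/-- A two-group has a nonzero fixed vector in characteristic two. -/
theorem exists_fixed_ne_zero (ρ : Γ →* Module.End K U) (hU : ∃ v : U, v ≠ 0) {P : Subgroup Γ}
    (hP : IsPGroup 2 P) : ∃ v : U, v ≠ 0 ∧ ∀ x ∈ P, ρ x v = v := by
  classical
  haveI : Fact (Nat.Prime 2) := ⟨Nat.prime_two⟩
  let fixer : U → Subgroup Γ := fun v =>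
    { carrier := {x | x ∈ P ∧ ρ x v = v}
      one_mem' := ⟨one_mem P, by rw [map_one]; rfl⟩
      mul_mem' := fun {x y} hx hy => ⟨mul_mem hx.1 hy.1, by
        rw [map_mul, Module.End.mul_apply, hy.2, hx.2]⟩
      inv_mem' := fun {x} hx => ⟨inv_mem hx.1, by
        conv_lhs => rw [← hx.2]
        rw [← Module.End.mul_apply, ← map_mul, inv_mul_cancel, map_one]; rfl⟩ }
  obtain ⟨v₀, hv₀⟩ := hU
  obtain ⟨F, ⟨v, hv, rfl⟩, hmax⟩ := Set.exists_max_image
    {F : Subgroup Γ | ∃ v : U, v ≠ 0 ∧ fixer v = F} (fun F => Nat.card F) (Set.toFinite _)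
    ⟨_, v₀, hv₀, rfl⟩
  refine ⟨v, hv, ?_⟩
  by_contra hcon
  push Not at hcon
  obtain ⟨x₀, hx₀, hx₀v⟩ := hcon
  set F' := (fixer v).subgroupOf P with hF'
  have hne : F' < ⊤ := lt_top_iff_ne_top.2 fun h => hx₀v
    ((show fixer v ≥ P from subgroupOf_eq_top.1 h) hx₀).2
  haveI := hP.isNilpotent
  obtain ⟨g, hgN, hgF⟩ := SetLike.exists_of_lt (normalizerCondition_of_isNilpotent F' hne)
  obtain ⟨k, hk⟩ := hP g
  have hk0 : g ^ 2 ^ k ∈ F' := by rw [hk]; exact one_mem _
  obtain ⟨i, hi⟩ : ∃ i, g ^ 2 ^ i ∉ F' ∧ g ^ 2 ^ (i + 1) ∈ F' := by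
    clear hk
    induction k with
    | zero => exact absurd (by simpa using hk0) hgF
    | succ k ih =>
      by_cases h : g ^ 2 ^ k ∈ F'
      · exact ih h
      · exact ⟨k, h, hk0⟩
  set h := g ^ 2 ^ i with hh
  have hhN : h ∈ normalizer (F' : Set P) := pow_mem hgN _
  have hh2 : h * h ∈ F' := by
    rw [hh, ← pow_add, ← two_mul, ← pow_succ']; exact hi.2
  set w := v + ρ (h : Γ) v with hw
  have hhv : ρ (h : Γ) v ≠ v := fun e => hi.1 ⟨h.2, e⟩
  have h2 : ∀ u : U, u + u = 0 := fun u => by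
    rw [← two_smul K u, CharTwo.two_eq_zero, zero_smul]
  have hw0 : w ≠ 0 := fun h0 => hhv (by
    have h1 := eq_neg_of_add_eq_zero_right h0
    rw [h1]
    exact neg_eq_of_add_eq_zero_left (h2 v))
  have hle : fixer v ≤ fixer w := fun x hx => ⟨hx.1, by
    have hy : (h⁻¹ * ⟨x, hx.1⟩ * h : P) ∈ F' := by
      have := (mem_normalizer_iff.1 (inv_mem hhN) (⟨x, hx.1⟩ : P)).1 hx
      rwa [inv_inv] at this
    have hy2 : ρ ((h⁻¹ * ⟨x, hx.1⟩ * h : P) : Γ) v = v := hy.2
    rw [hw, map_add, hx.2]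
    congr 1
    conv_rhs => rw [← hy2]
    rw [← Module.End.mul_apply, ← Module.End.mul_apply, ← map_mul, ← map_mul]
    congr 2
    simp [Subgroup.coe_mul, mul_assoc]⟩
  have hmem : (h : Γ) ∈ fixer w := ⟨h.2, by
    have hh2' : ρ (((h * h : P) : Γ)) v = v := hh2.2
    rw [hw, map_add, ← Module.End.mul_apply, ← map_mul, ← Subgroup.coe_mul, hh2', add_comm]⟩
  refine absurd (eq_of_le_of_card_ge hle (hmax _ ⟨w, hw0, rfl⟩)) fun e => ?_
  rw [← e] at hmem
  exact hi.1 hmem

end Fixed

section Burnside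

variable {W : Type*} [Group W] [Finite W]

/-- If conjugation by two elements in either order agrees on `v`, the derived group centralises `v`. -/
theorem commute_of_conj_comm {v : W} (h : ∀ x y : W, x * y * v * (x * y)⁻¹ = y * x * v * (y * x)⁻¹) :
    ∀ w ∈ commutator W, Commute w v := by
  intro w hw
  rw [commutator_eq_closure] at hw
  induction hw using closure_induction with
  | mem c hc =>
    obtain ⟨x, y, rfl⟩ := hc
    refine mul_inv_eq_iff_eq_mul.1 ?_
    calc ⁅x, y⁆ * v * ⁅x, y⁆⁻¹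
        = (x * y) * (x⁻¹ * y⁻¹ * v * (x⁻¹ * y⁻¹)⁻¹) * (x * y)⁻¹ := by
          rw [commutatorElement_def]; group
      _ = (x * y) * (y⁻¹ * x⁻¹ * v * (y⁻¹ * x⁻¹)⁻¹) * (x * y)⁻¹ := by rw [h x⁻¹ y⁻¹]
      _ = v := by group
  | one => exact Commute.one_left v
  | mul s t _ _ hs ht => exact hs.mul_left ht
  | inv s _ hs => exact hs.inv_left

/-- An abelian two-group with at most one involution is cyclic. -/
theorem exists_zpowers_eq (hW : IsPGroup 2 W) {A : Subgroup W} (hAc : ∀ x ∈ A, ∀ y ∈ A, x * y = y * x)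
    {a : W} (huniq : ∀ v ∈ A, v * v = 1 → v = 1 ∨ v = a) : ∃ u ∈ A, A = zpowers u := by
  obtain ⟨u, hu, hmax⟩ := Set.exists_max_image (A : Set W) orderOf (Set.toFinite _) ⟨1, one_mem A⟩
  refine ⟨u, hu, le_antisymm ?_ (zpowers_le.2 hu)⟩
  have hpow : ∀ w : W, ∃ i, orderOf w = 2 ^ i := fun w => IsPGroup.iff_orderOf.1 hW w
  suffices h : ∀ i : ℕ, ∀ x ∈ A, orderOf x = 2 ^ i → x ∈ zpowers u by
    intro x hx
    obtain ⟨i, hi⟩ := hpow x
    exact h i x hx hi
  intro i
  induction i with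
  | zero =>
    intro x _ hx
    rw [pow_zero, orderOf_eq_one_iff] at hx
    rw [hx]; exact one_mem _
  | succ i ih =>
    intro x hx hxo
    have hx2 : x * x ∈ zpowers u := by
      refine ih _ (mul_mem hx hx) ?_
      rw [← pow_two, orderOf_pow, hxo, Nat.gcd_eq_right (dvd_pow_self 2 (Nat.succ_ne_zero i)),
        pow_succ, Nat.mul_div_cancel _ two_pos]
    obtain ⟨k, hk⟩ := (isOfFinOrder_of_finite u).mem_powers_iff_mem_zpowers.2 hx2
    change u ^ k = x * x at hk
    obtain ⟨j, hj⟩ := hpow u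
    have hxu : i + 1 ≤ j := (Nat.pow_le_pow_iff_right (le_refl 2)).1 (hxo ▸ hj ▸ hmax x hx)
    have hkeven : Even k := by
      by_contra hodd
      rw [Nat.not_even_iff_odd] at hodd
      have h1 : orderOf (u ^ k) = 2 ^ j := by
        rw [Nat.Coprime.orderOf_pow, hj]
        rw [hj]
        exact ((Nat.prime_two.coprime_iff_not_dvd).2 hodd.not_two_dvd_nat).pow_left j
      rw [hk, ← pow_two, orderOf_pow, hxo, Nat.gcd_eq_right (dvd_pow_self 2 (Nat.succ_ne_zero i)),
        pow_succ, Nat.mul_div_cancel _ two_pos] at h1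
      have := Nat.pow_right_injective (le_refl 2) h1
      omega
    obtain ⟨m, rfl⟩ := hkeven
    set v := x * (u ^ m)⁻¹ with hv
    have hvA : v ∈ A := mul_mem hx (inv_mem (pow_mem hu m))
    have hc : Commute x ((u ^ m)⁻¹) := hAc x hx _ (inv_mem (pow_mem hu m))
    have hv2 : v * v = 1 := by
      rw [hv, hc.symm.mul_mul_mul_comm, ← hk, ← mul_inv_rev, ← pow_add, mul_inv_cancel]
    have hxe : x = v * u ^ m := by rw [hv, inv_mul_cancel_right]
    have hA1 : ∀ w ∈ A, w * w = 1 → w ∈ zpowers u := by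
      intro w hw hw2
      rcases huniq w hw hw2 with h | h
      · rw [h]; exact one_mem _
      · rcases eq_or_ne w 1 with h1 | h1
        · rw [h1]; exact one_mem _
        have hj1 : 1 ≤ j := by omega
        rcases huniq (u ^ 2 ^ (j - 1)) (pow_mem hu _) (by
          rw [← pow_add, ← two_mul, ← pow_succ', Nat.sub_add_cancel hj1, ← hj,
            pow_orderOf_eq_one]) with h2 | h2
        · have := orderOf_le_of_pow_eq_one (Nat.two_pow_pos _) h2
          rw [hj] at this
          exact absurd this (not_le.2 (Nat.pow_lt_pow_right one_lt_two (by omega)))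
        · rw [h, ← h2]
          exact pow_mem (mem_zpowers u) _
    rw [hxe]
    exact mul_mem (hA1 v hvA hv2) (pow_mem (mem_zpowers u) m)

/-- A nonabelian normal subgroup inside the derived group of a two-group has a second central
involution. -/
theorem exists_central_involution (hW : IsPGroup 2 W) {Y : Subgroup W} [Y.Normal]
    (hY : Y ≤ commutator W) (hnc : ∃ x ∈ Y, ∃ y ∈ Y, x * y ≠ y * x) (a : W) :
    ∃ v ∈ Y, (∀ y ∈ Y, v * y = y * v) ∧ v * v = 1 ∧ v ≠ 1 ∧ v ≠ a := by
  haveI : Fact (Nat.Prime 2) := ⟨Nat.prime_two⟩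
  set Z := Y ⊓ centralizer (Y : Set W) with hZ
  haveI : Z.Normal := inferInstance
  by_contra hcon
  push Not at hcon
  have huniq : ∀ v ∈ Z, v * v = 1 → v = 1 ∨ v = a := fun v hv h2 => by
    by_cases h : v = 1
    · exact .inl h
    · exact .inr (hcon v hv.1 (fun y hy => (mem_centralizer_iff.1 hv.2 y hy).symm) h2 h)
  set f := QuotientGroup.mk' Z
  haveI : (Y.map f).Normal := Normal.map inferInstance f (QuotientGroup.mk'_surjective Z)
  have hYZ : Y.map f ≠ ⊥ := fun h => by
    obtain ⟨x, hx, y, hy, hxy⟩ := hnc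
    have hxZ : x ∈ Z := (QuotientGroup.eq_one_iff x).1 (mem_bot.1 (h ▸ mem_map_of_mem f hx))
    exact hxy (mem_centralizer_iff.1 hxZ.2 y hy).symm
  haveI : Group.IsNilpotent (W ⧸ Z) := (hW.to_quotient Z).isNilpotent
  obtain ⟨c, hc, hc1⟩ := (bot_or_exists_ne_one (Y.map f ⊓ center (W ⧸ Z))).resolve_left
    (Solvable.FrattiniFitting.inf_center_ne_bot _ hYZ)
  obtain ⟨⟨u, huY, rfl⟩, huc⟩ := hc
  have huZ : u ∉ Z := fun h => hc1 ((QuotientGroup.eq_one_iff u).2 h)
  set A := Z ⊔ zpowers u with hA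
  have huA : u ∈ A := mem_sup_right (mem_zpowers u)
  have hAY : A ≤ Y := sup_le inf_le_left (zpowers_le.2 huY)
  have hAc : ∀ x ∈ A, ∀ y ∈ A, x * y = y * x := by
    intro x hx y hy
    obtain ⟨z, hz, _, ⟨i, rfl⟩, rfl⟩ := mem_sup_of_normal_left.1 hx
    obtain ⟨z', hz', _, ⟨i', rfl⟩, rfl⟩ := mem_sup_of_normal_left.1 hy
    have hc : ∀ z ∈ Z, ∀ w ∈ Y, Commute z w := fun z hz w hw =>
      (mem_centralizer_iff.1 hz.2 w hw).symm
    exact (((hc z hz z' hz'.1).mul_right (hc z hz _ (zpow_mem huY i'))).mul_left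
      (((hc z' hz' _ (zpow_mem huY i)).symm).mul_right (Commute.zpow_zpow_self u i i'))).eq
  have hwu : ∀ w : W, w * u * w⁻¹ * u⁻¹ ∈ Z := fun w => by
    refine (QuotientGroup.eq_one_iff _).1 ?_
    show f (w * u * w⁻¹ * u⁻¹) = 1
    rw [map_mul, map_mul, map_mul, map_inv, map_inv, mem_center_iff.1 huc (f w),
      mul_inv_cancel_right, mul_inv_cancel]
  -- derived elements fix what every element moves by a power
  by_cases hsec : ∀ v ∈ A, v * v = 1 → v = 1 ∨ v = a
  · obtain ⟨g, hgA, hAg⟩ := exists_zpowers_eq hW hAc hsec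
    have hconj : ∀ w : W, ∃ i : ℤ, w * g * w⁻¹ = g ^ i := fun w => by
      have hmem : w * g * w⁻¹ ∈ A := by
        obtain ⟨z, hz, _, ⟨i, rfl⟩, rfl⟩ := mem_sup_of_normal_left.1 hgA
        rw [show w * (z * u ^ i) * w⁻¹ = (w * z * w⁻¹) * (w * u * w⁻¹) ^ i by
          rw [conj_zpow]; group]
        refine mul_mem (mem_sup_left ((inferInstance : Z.Normal).conj_mem z hz w)) (zpow_mem ?_ i)
        rw [show w * u * w⁻¹ = w * u * w⁻¹ * u⁻¹ * u by group]
        exact mul_mem (mem_sup_left (hwu w)) huA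
      rw [hAg] at hmem
      obtain ⟨i, hi⟩ := mem_zpowers_iff.1 hmem
      exact ⟨i, hi.symm⟩
    have hder : ∀ w ∈ commutator W, Commute w g := commute_of_conj_comm fun x y => by
      obtain ⟨i, hi⟩ := hconj x
      obtain ⟨j, hj⟩ := hconj y
      rw [show x * y * g * (x * y)⁻¹ = x * (y * g * y⁻¹) * x⁻¹ by group, hj, ← conj_zpow, hi,
        show y * x * g * (y * x)⁻¹ = y * (x * g * x⁻¹) * y⁻¹ by group, hi, ← conj_zpow, hj,
        ← zpow_mul, ← zpow_mul, mul_comm]
    obtain ⟨i, hi⟩ := mem_zpowers_iff.1 (hAg ▸ huA)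
    refine huZ ⟨huY, mem_centralizer_iff.2 fun y hy => ?_⟩
    rw [← hi]
    exact ((hder y (hY hy)).zpow_right i).eq
  · push Not at hsec
    obtain ⟨v, hvA, hv2, hv1, hva⟩ := hsec
    have hvY := hAY hvA
    have hvz : ∀ w : W, ∃ z' ∈ Z, z' * z' = 1 ∧ w * v * w⁻¹ = v * z' := fun w => by
      obtain ⟨z, hz, _, ⟨i, rfl⟩, hzi⟩ := mem_sup_of_normal_left.1 hvA
      set z' := (w * z * w⁻¹) * (w * u * w⁻¹) ^ i * v⁻¹ with hz'
      have hz'Z : z' ∈ Z := by
        refine (QuotientGroup.eq_one_iff z').1 ?_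
        show f z' = 1
        have h1 : f (w * u * w⁻¹) = f u := by
          rw [← mul_inv_eq_one, ← map_inv, ← map_mul]
          exact (QuotientGroup.eq_one_iff _).2 (hwu w)
        rw [hz', ← hzi, map_mul, map_mul, map_zpow, h1,
          show f (w * z * w⁻¹) = 1 from
            (QuotientGroup.eq_one_iff _).2 ((inferInstance : Z.Normal).conj_mem z hz w),
          map_inv, map_mul, show f z = 1 from (QuotientGroup.eq_one_iff z).2 hz, map_zpow, one_mul,
          mul_inv_cancel]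
      have hwv : w * v * w⁻¹ = v * z' := by
        rw [(mem_centralizer_iff.1 hz'Z.2 v hvY), hz', inv_mul_cancel_right, ← hzi, conj_zpow]
        group
      have hz2 : z' * z' = 1 := by
        have h1 : (v * z') * (v * z') = 1 := by
          rw [← hwv, show w * v * w⁻¹ * (w * v * w⁻¹) = w * (v * v) * w⁻¹ by group, hv2, mul_one,
            mul_inv_cancel]
        rwa [(show Commute z' v from (mem_centralizer_iff.1 hz'Z.2 v hvY).symm).mul_mul_mul_comm,
          hv2, one_mul] at h1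
      exact ⟨z', hz'Z, hz2, hwv⟩
    have hvmove : ∀ w : W, w * v * w⁻¹ = v ∨ w * v * w⁻¹ = v * a := fun w => by
      obtain ⟨z', hz', hz2, hwv⟩ := hvz w
      rcases huniq z' hz' hz2 with h | h
      · exact .inl (by rw [hwv, h, mul_one])
      · exact .inr (by rw [hwv, h])
    have haZ : ∀ w : W, w * v * w⁻¹ = v * a → a ∈ Z ∧ a * a = 1 := fun w h => by
      obtain ⟨z', hz', hz2, hwv⟩ := hvz w
      rw [hwv] at h
      rw [← mul_left_cancel h]
      exact ⟨hz', hz2⟩
    have hfixa : a ∈ Z → a * a = 1 → a ≠ 1 → ∀ w : W, w * a * w⁻¹ = a := fun ha ha2 ha1 w => by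
      refine (huniq _ ((inferInstance : Z.Normal).conj_mem a ha w) ?_).resolve_left
        fun h => ha1 (conj_eq_one_iff.1 h)
      rw [show w * a * w⁻¹ * (w * a * w⁻¹) = w * (a * a) * w⁻¹ by group, ha2, mul_one,
        mul_inv_cancel]
    have hder : ∀ w ∈ commutator W, Commute w v := commute_of_conj_comm fun x y => by
      rcases eq_or_ne a 1 with ha1 | ha1
      · have hfix : ∀ w : W, w * v * w⁻¹ = v := fun w =>
          (hvmove w).elim id fun h => by rwa [ha1, mul_one] at h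
        rw [hfix, hfix]
      by_cases ha : a ∈ Z ∧ a * a = 1
      · have hw2 : ∀ w : W, w * (v * a) * w⁻¹ = w * v * w⁻¹ * a := fun w => by
          conv_rhs => rw [← hfixa ha.1 ha.2 ha1 w]
          group
        rw [show x * y * v * (x * y)⁻¹ = x * (y * v * y⁻¹) * x⁻¹ by group,
          show y * x * v * (y * x)⁻¹ = y * (x * v * x⁻¹) * y⁻¹ by group]
        rcases hvmove y with hy | hy <;> rcases hvmove x with hx | hx <;>
          simp only [hx, hy, hw2]
      · have hfix : ∀ w : W, w * v * w⁻¹ = v := fun w => (hvmove w).elim id fun h => absurd (haZ w h) ha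
        rw [hfix, hfix]
    exact hva (hcon v hvY (fun y hy => (hder y (hY hy)).eq.symm) hv2 hv1)

end Burnside

end CfsgLib.Solvable.TwoLengthDerived
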