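import Cfsg.Agent.Lib.Solvable.TwoLengthDerived.Roots

/-!
# The derived depth of a block

On a block all chains of length two vanishing gives roots of the central involution; longer vanishing
chains force the last derived subgroup to act trivially.
-/

set_option autoImplicit false

namespace CfsgLib.Solvable.TwoLengthDerived

open Subgroup CfsgLib CfsgLib.Solvable.FPFOperators CfsgLib.Solvable.TwoLengthExp
open scoped commutatorElement

universe u v w

variable {Γ : Type u} [Group Γ] [Finite Γ] {K : Type v} [Field K] [CharP K 2]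
  {U : Type w} [AddCommGroup U] [Module K U]

/-- The derived group of the ambient group centralises an element moved by at most one involution. -/
theorem commute_derived_of_moves {T : Subgroup Γ} {a b : Γ} (hab : Commute a b) (ha2 : a * a = 1)
    (hca : ∀ x ∈ T, Commute x a) (hb : ∀ x ∈ T, x * b * x⁻¹ = b ∨ x * b * x⁻¹ = b * a) :
    ∀ y ∈ dser T 1, Commute y b := by
  intro y hy
  change y ∈ Subgroup.closure _ at hy
  induction hy using closure_induction with
  | mem c hc =>
    obtain ⟨x, hx, x', hx', rfl⟩ := hc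
    have hmove : ∀ x ∈ T, x * (b * a) * x⁻¹ = x * b * x⁻¹ * a := fun x hx => by
      conv_rhs => rw [← (show x * a * x⁻¹ = a by rw [(hca x hx).eq, mul_inv_cancel_right])]
      group
    have hinv : ∀ x ∈ T, x⁻¹ * b * x = x * b * x⁻¹ := fun x hx => by
      rcases hb x hx with h | h
      · rw [h]; conv_lhs => rw [← h]
        group
      · rw [h]
        have h' : x * (b * a) * x⁻¹ = b := by rw [hmove x hx, h, mul_assoc, ha2, mul_one]
        conv_lhs => rw [← h']
        group
    refine mul_inv_eq_iff_eq_mul.1 ?_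
    rw [show ⁅x, x'⁆ * b * ⁅x, x'⁆⁻¹ = x * (x' * (x⁻¹ * (x'⁻¹ * b * x') * x) * x'⁻¹) * x⁻¹ by
      rw [commutatorElement_def]; group, hinv x' hx']
    have hinv2 : x⁻¹ * (b * a) * x = x⁻¹ * b * x * a := by
      have := hmove x⁻¹ (inv_mem hx); rwa [inv_inv] at this
    rcases hb x' hx' with h' | h' <;> rcases hb x hx with h | h <;>
      simp only [h', h, hinv x hx, hinv2, hmove x hx, hmove x' hx', mul_assoc b, ha2, mul_one]
  | one => exact Commute.one_left b
  | mul s t _ _ hs ht => exact hs.mul_left ht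
  | inv s _ hs => exact hs.inv_left

namespace Sys

variable {ρ : Γ →* Module.End K U} {C : Subgroup Γ} [C.Normal] {q : ℕ} [Fact q.Prime]
  (h : Sys ρ C q)

include h

omit [Finite Γ] [C.Normal] [Fact q.Prime] in
theorem sub_one_add_self (x : Γ) : (ρ x - 1) + (ρ x - 1) = 0 := by
  rw [← two_smul K (ρ x - 1), CharTwo.two_eq_zero, zero_smul]

omit [Finite Γ] [C.Normal] [Fact q.Prime] in
theorem sub_one_sq (x : Γ) : (ρ x - 1) * (ρ x - 1) = ρ (x * x) - 1 := by
  have e : (ρ x - 1) * (ρ x - 1) = ρ (x * x) - 1 - ((ρ x - 1) + (ρ x - 1)) := by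
    rw [map_mul]; noncomm_ring
  rw [e, h.sub_one_add_self, sub_zero]

omit [Finite Γ] [C.Normal] [Fact q.Prime] in
theorem mul_self_eq_one {a : Γ} (ha : (ρ a - 1) * (ρ a - 1) = 0) : a * a = 1 := by
  rw [h.sub_one_sq, sub_eq_zero] at ha
  exact h.inj (ha.trans ρ.map_one.symm)

omit [Finite Γ] [CharP K 2] [C.Normal] [Fact q.Prime] h in
theorem commute_sub_one {x y : Γ} (hxy : Commute x y) : Commute (ρ x - 1) (ρ y - 1) :=
  ((hxy.map ρ).sub_right (Commute.one_right _)).sub_left (Commute.one_left _)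

/-- A central involution acting nontrivially in the last derived subgroup. -/
theorem exists_central {T : Subgroup Γ} (hT : IsPGroup 2 T) {k : ℕ}
    (hch : ChainZero ρ T (k + 2)) (hex : ∃ a ∈ dser T (k + 1), act C a ≠ 1) :
    ∃ a ∈ dser T (k + 1), a * a = 1 ∧ act C a ≠ 1 ∧ ∀ x ∈ T, Commute x a := by
  haveI : Fact (Nat.Prime 2) := ⟨Nat.prime_two⟩
  set A := dser T (k + 1) with hA
  set P := T.map (act C) with hP
  haveI : Group.IsNilpotent P := (hT.map (act C)).isNilpotent
  set A' := (A.map (act C)).subgroupOf P with hA'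
  haveI : A'.Normal := (normal_subgroupOf_iff_le_normalizer (map_mono (dser_le T _))).2
    ((map_mono (le_normalizer.trans (normalizer_le_dser T _))).trans (le_normalizer_map (act C)))
  have hA'ne : A' ≠ ⊥ := fun h0 => by
    obtain ⟨a, ha, ha1⟩ := hex
    have h1 : (⟨act C a, mem_map_of_mem _ (dser_le T _ ha)⟩ : P) ∈ A' := mem_map_of_mem (act C) ha
    rw [h0, mem_bot] at h1
    exact ha1 (congrArg Subtype.val h1)
  obtain ⟨⟨z, hzP⟩, hz, hz1⟩ := (bot_or_exists_ne_one (A' ⊓ center P)).resolve_left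
    (Solvable.FrattiniFitting.inf_center_ne_bot A' hA'ne)
  obtain ⟨⟨a, ha, rfl⟩, hzc⟩ := hz
  have ha1 : act C a ≠ 1 := fun h0 => hz1 (Subtype.ext h0)
  have haa : a * a = 1 := h.mul_self_eq_one (hch.quadratic ha ha)
  refine ⟨a, ha, haa, ha1, fun x hx => ?_⟩
  set w := ⁅x, a⁆ with hw
  have hwA : w ∈ A := by
    rw [hw, show ⁅x, a⁆ = (x * a * x⁻¹) * a⁻¹ by rw [commutatorElement_def]]
    exact mul_mem ((mem_normalizer_iff.1 (normalizer_le_dser T _ (le_normalizer hx)) a).1 ha) (inv_mem ha)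
  have hw1 : act C w = 1 := by
    rw [hw, map_commutatorElement, commutatorElement_eq_one_iff_mul_comm]
    exact congrArg Subtype.val (mem_center_iff.1 hzc ⟨act C x, mem_map_of_mem _ hx⟩)
  obtain ⟨v, hv, hv1⟩ := (bot_or_exists_ne_one (negPart (act C a))).resolve_left
    fun h0 => ha1 (eq_one_of_negPart_eq_bot h.quo_odd (by rw [← map_mul, haa, map_one]) h0)
  exact commutatorElement_eq_one_iff_mul_comm.1 (h.eq_one_of_fixed
    ((hT.to_le (dser_le T _)).to_le (zpowers_le.2 hwA)) (hch.quadratic hwA ha) hv1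
    (mem_negPart.1 hv) (by rw [hw1, MulAut.one_apply]))

variable [IsAlgClosed K] [FiniteDimensional K U]

/-- The roots when chains of length two vanish. -/
theorem exists_root {T : Subgroup Γ} (hT : IsPGroup 2 T) (hch : ChainZero ρ T 2)
    (hex : ∃ a ∈ dser T 1, act C a ≠ 1) :
    ∃ a ∈ dser T 1, a * a = 1 ∧ act C a ≠ 1 ∧ (∀ x ∈ T, Commute x a) ∧
      (∀ x ∈ T, x = 1 ∨ x = a ∨ x * x = a) ∧
      q = 3 ∧ Nat.card (negPart (act C a)) = 9 ∧ ∃ r ∈ T, r * r = a := by
  obtain ⟨a, ha, haa, ha1, hca⟩ := h.exists_central hT (k := 0) hch hex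
  have hxa : ∀ x ∈ T, (ρ x - 1) * (ρ a - 1) = 0 := fun x hx => by
    rw [(commute_sub_one (hca x hx)).eq]
    have := hch _ (isChain_succ ρ (n := 1) ha (isChain_succ ρ (n := 0) hx rfl))
    rwa [mul_one] at this
  have hall := fun x hx => h.root_cases haa ha1 (hT.to_le (zpowers_le.2 hx)) (hca x hx) (hxa x hx)
  obtain ⟨r, hr, hr1, hra⟩ : ∃ r ∈ T, r ≠ 1 ∧ r ≠ a := by
    by_contra hcon
    push Not at hcon
    refine ha1 ?_
    have hbot : dser T 1 ≤ ⊥ := commutator_le.2 fun x hx y hy => mem_bot.2 (by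
      rw [commutatorElement_eq_one_iff_mul_comm]
      by_cases h1 : x = 1
      · rw [h1, one_mul, mul_one]
      · rw [hcon x hx h1]
        exact (hca y hy).eq.symm)
    rw [mem_bot.1 (hbot ha), map_one]
  rcases hall r hr with h1 | h1 | ⟨h1, h2, h3⟩
  · exact absurd h1 hr1
  · exact absurd h1 hra
  exact ⟨a, ha, haa, ha1, hca, fun x hx => (hall x hx).imp_right (Or.imp_right fun h => h.1),
    h2, h3, r, hr, h1⟩

omit [IsAlgClosed K] [FiniteDimensional K U] in
/-- An element killing two displacements with one common fixed vector fixes all of them. -/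
theorem act_eq_of_common_fixed {y a b : Γ} (hb2 : b * b = 1) (hb1 : b ≠ 1) (hyb : Commute y b)
    (hy2 : IsPGroup 2 (zpowers y))
    (h3 : (ρ y - 1) * (ρ b - 1) * (ρ a - 1) = 0) {v : Quo C} (hv1 : v ≠ 1)
    (hva : act C a v = v⁻¹) (hvy : act C y v = v) (hvb : act C b v = v) {w : Quo C}
    (hw : act C b w = w) : act C y w = w := by
  have hP : IsPGroup 2 (zpowers y ⊔ zpowers b : Subgroup Γ) :=
    hy2.to_sup_of_normal_left' (TwoLength.isPGroup_two_zpowers hb2)
      (zpowers_le.2 (TwoLength.mem_normalizer_zpowers hyb.symm))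
  have hfix : ∀ x ∈ (zpowers y ⊔ zpowers b : Subgroup Γ), act C x v = v := fun x hx => by
    have hle : (zpowers y ⊔ zpowers b : Subgroup Γ) ≤
        (MulAction.stabilizer (MulAut (Quo C)) v).comap (act C) :=
      sup_le (zpowers_le.2 hvy) (zpowers_le.2 hvb)
    exact hle hx
  have hQ : (ρ y - 1) * (ρ b - 1) = 0 := h.eq_zero_of_mul_sub_one hP (fun c _ hc =>
      ((commute_sub_one_right (hc y (mem_sup_left (mem_zpowers y)))).mul_left
        (commute_sub_one_right (hc b (mem_sup_right (mem_zpowers b))))).eq)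
    h3 hv1 hva hfix
  exact h.act_fixed_eq hb2 hb1 hyb hQ hw
where
  commute_sub_one_right {x c : Γ} (hxc : Commute x c) : Commute (ρ x - 1) (ρ c) :=
    (hxc.map ρ).sub_left (Commute.one_left _)

end Sys

end CfsgLib.Solvable.TwoLengthDerived
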