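import Cfsg.Agent.Lib.Solvable.TwoLengthDerived.Deep

/-!
# No deep chains in a block

If the chains of length `k + 3` vanish on a block then no element of the `k + 2`-nd derived subgroup
inverts the whole plane quotient, the two-group acting faithfully on it.
-/

set_option autoImplicit false

namespace CfsgLib.Solvable.TwoLengthDerived

open Subgroup CfsgLib CfsgLib.Solvable.FPFOperators CfsgLib.Solvable.TwoLengthExp
open scoped commutatorElement

universe u v w

variable {Γ : Type u} [Group Γ] [Finite Γ] {K : Type v} [Field K] [CharP K 2]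
  {U : Type w} [AddCommGroup U] [Module K U]

/-- The fixed subgroup of an automorphism. -/
def fixPart {M : Type*} [CommGroup M] (z : MulAut M) : Subgroup M :=
  z.toMonoidHom.eqLocus (MonoidHom.id M)

theorem mem_fixPart {M : Type*} [CommGroup M] {z : MulAut M} {v : M} : v ∈ fixPart z ↔ z v = v :=
  Iff.rfl

/-- A central element of order two modulo a central involution. -/
theorem exists_central_mod {T Y : Subgroup Γ} (hT : IsPGroup 2 T) (hYT : Y ≤ T)
    (hYn : T ≤ normalizer (Y : Set Γ)) {a v : Γ} (haY : a ∈ Y) (ha2 : a * a = 1)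
    (hca : ∀ x ∈ T, Commute x a) (hvY : v ∈ Y) (hv2 : v * v = 1) (hvc : ∀ y ∈ Y, Commute v y)
    (hv1 : v ≠ 1) (hva : v ≠ a) :
    ∃ b ∈ Y, b * b = 1 ∧ b ≠ 1 ∧ b ≠ a ∧ (∀ y ∈ Y, Commute b y) ∧
      ∀ x ∈ T, x * b * x⁻¹ = b ∨ x * b * x⁻¹ = b * a := by
  haveI : Fact (Nat.Prime 2) := ⟨Nat.prime_two⟩
  let Ω : Subgroup T :=
    { carrier := {b | (b : Γ) ∈ Y ∧ (b : Γ) * b = 1 ∧ ∀ y ∈ Y, Commute (b : Γ) y}
      one_mem' := ⟨one_mem Y, mul_one 1, fun y _ => Commute.one_left y⟩
      mul_mem' := fun {b c} hb hc => ⟨mul_mem hb.1 hc.1, by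
        rw [Subgroup.coe_mul, (hc.2.2 _ hb.1).mul_mul_mul_comm, hb.2.1, hc.2.1, mul_one],
        fun y hy => (hb.2.2 y hy).mul_left (hc.2.2 y hy)⟩
      inv_mem' := fun {b} hb => ⟨inv_mem hb.1, by
        rw [InvMemClass.coe_inv, ← mul_inv_rev, hb.2.1, inv_one], fun y hy => (hb.2.2 y hy).inv_left⟩ }
  haveI : Ω.Normal := ⟨fun b hb x => by
    refine ⟨(mem_normalizer_iff.1 (hYn x.2) _).1 hb.1, ?_, fun y hy => ?_⟩
    · show (x : Γ) * b * (x : Γ)⁻¹ * ((x : Γ) * b * (x : Γ)⁻¹) = 1
      rw [show (x : Γ) * b * (x : Γ)⁻¹ * ((x : Γ) * b * (x : Γ)⁻¹) = x * ((b : Γ) * b) * (x : Γ)⁻¹ by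
        group, hb.2.1, mul_one, mul_inv_cancel]
    · have h' := hb.2.2 ((x : Γ)⁻¹ * y * x) (by
        have := (mem_normalizer_iff.1 (inv_mem (hYn x.2)) y).1 hy
        rwa [inv_inv] at this)
      show (x : Γ) * b * (x : Γ)⁻¹ * y = y * ((x : Γ) * b * (x : Γ)⁻¹)
      calc (x : Γ) * b * (x : Γ)⁻¹ * y = x * (b * ((x : Γ)⁻¹ * y * x)) * (x : Γ)⁻¹ := by group
        _ = x * ((x : Γ)⁻¹ * y * x * b) * (x : Γ)⁻¹ := by rw [h'.eq]
        _ = y * ((x : Γ) * b * (x : Γ)⁻¹) := by group⟩
  set a' : T := ⟨a, hYT haY⟩ with ha'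
  haveI : (zpowers a').Normal := ⟨fun b hb x => by
    obtain ⟨i, rfl⟩ := mem_zpowers_iff.1 hb
    have hc : Commute x a' := Subtype.ext (hca x x.2).eq
    rw [(hc.zpow_right i).eq, mul_inv_cancel_right]
    exact zpow_mem (mem_zpowers a') i⟩
  set f := QuotientGroup.mk' (zpowers a') with hf
  have hza : ∀ b : T, f b = 1 → (b : Γ) = 1 ∨ (b : Γ) = a := fun b hb => by
    obtain ⟨i, hi⟩ := mem_zpowers_iff.1 ((QuotientGroup.eq_one_iff b).1 hb)
    rcases Int.even_or_odd' i with ⟨j, rfl | rfl⟩
    · left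
      rw [← hi, zpow_mul, zpow_two, show a' * a' = 1 from Subtype.ext ha2, one_zpow]; rfl
    · right
      rw [← hi, zpow_add, zpow_mul, zpow_two, show a' * a' = 1 from Subtype.ext ha2, one_zpow,
        zpow_one, one_mul]
  haveI : (Ω.map f).Normal := Normal.map inferInstance f (QuotientGroup.mk'_surjective _)
  haveI : Group.IsNilpotent (T ⧸ zpowers a') := (hT.to_quotient _).isNilpotent
  have hne : Ω.map f ≠ ⊥ := fun h0 => by
    have h1 : f ⟨v, hYT hvY⟩ = 1 :=
      mem_bot.1 (h0 ▸ mem_map_of_mem f (show (⟨v, hYT hvY⟩ : T) ∈ Ω from ⟨hvY, hv2, hvc⟩))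
    rcases hza _ h1 with h | h
    · exact hv1 h
    · exact hva h
  obtain ⟨c, hc, hc1⟩ := (bot_or_exists_ne_one (Ω.map f ⊓ center (T ⧸ zpowers a'))).resolve_left
    (Solvable.FrattiniFitting.inf_center_ne_bot _ hne)
  obtain ⟨⟨b, hb, rfl⟩, hbc⟩ := hc
  refine ⟨b, hb.1, hb.2.1, fun h0 => hc1 ?_, fun h0 => hc1 ?_, hb.2.2, fun x hx => ?_⟩
  · rw [show b = 1 from Subtype.ext h0, map_one]
  · rw [show b = a' from Subtype.ext h0]
    exact (QuotientGroup.eq_one_iff _).2 (mem_zpowers a')
  · have h1 : f (b⁻¹ * ((⟨x, hx⟩ : T) * b * (⟨x, hx⟩ : T)⁻¹)) = 1 := by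
      rw [map_mul, map_mul, map_mul, map_inv, map_inv, mem_center_iff.1 hbc (f ⟨x, hx⟩),
        mul_inv_cancel_right, inv_mul_cancel]
    rcases hza _ h1 with h | h
    · left
      exact (inv_mul_eq_one.1 h).symm
    · right
      exact inv_mul_eq_iff_eq_mul.1 h

namespace Sys

variable {ρ : Γ →* Module.End K U} {C : Subgroup Γ} [C.Normal] {q : ℕ} [Fact q.Prime]
  (h : Sys ρ C q)

include h

/-- The fixed part of an involution is not cyclic of prime order. -/
theorem card_fixPart_ne {b : Γ} (hb2 : b * b = 1) : Nat.card (fixPart (act C b)) ≠ q := fun hc => by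
  have hq : q.Prime := Fact.out
  set F := fixPart (act C b) with hF
  obtain ⟨u, hu, hu1⟩ := (bot_or_exists_ne_one F).resolve_left fun h0 => by
    rw [h0, card_bot] at hc; exact hq.one_lt.ne hc
  refine hu1 (h.form_nondeg u fun w => ?_)
  obtain ⟨s, hs, hn, hp⟩ := exists_decomp (z := act C b) h.quo_odd
    (by rw [← map_mul, hb2, map_one]) w
  have hsplit : w = s * (act C b s)⁻¹ * (s * act C b s) := by
    rw [mul_mul_mul_comm, inv_mul_cancel, mul_one, hs]
  have hord : orderOf u = q := ((Nat.dvd_prime hq).1 (hc ▸ F.orderOf_dvd_natCard hu)).resolve_left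
    fun h0 => hu1 (orderOf_eq_one_iff.1 h0)
  have hFu : zpowers u = F :=
    eq_of_le_of_card_ge (zpowers_le.2 hu) (by rw [Nat.card_zpowers, hord, hc])
  have hpF : s * act C b s ∈ zpowers u := hFu.symm ▸ (mem_fixPart.2 hp)
  obtain ⟨i, hi⟩ := (isOfFinOrder_of_finite u).mem_powers_iff_mem_zpowers.2 hpF
  change u ^ i = s * act C b s at hi
  have hpow : ∀ j : ℕ, h.form u (u ^ j) = 1 := fun j => by
    induction j with
    | zero =>
      rw [pow_zero]
      have e := h.form_mul_right u 1 1
      rwa [one_mul, right_eq_mul] at e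
    | succ j ih => rw [pow_succ, h.form_mul_right, ih, h.form_self, mul_one]
  rw [hsplit, h.form_mul_right, h.form_orth' hu (mem_negPart.1 hn), one_mul, ← hi, hpow]

variable [IsAlgClosed K] [FiniteDimensional K U]

/-- The core of the argument. -/
theorem false_of_deep {T : Subgroup Γ} (hT : IsPGroup 2 T) {k : ℕ} (hch : ChainZero ρ T (k + 3))
    (hfaith : ∀ w ∈ T, act C w = 1 → w = 1) {a : Γ} (ha : a ∈ dser T (k + 2)) (ha2 : a * a = 1)
    (ha1 : act C a ≠ 1) (hca : ∀ x ∈ T, Commute x a) (hinv : ∀ v, act C a v = v⁻¹) : False := by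
  haveI : Fact (Nat.Prime 2) := ⟨Nat.prime_two⟩
  have hq : q.Prime := Fact.out
  set Y := dser T (k + 1) with hY
  set Wd := dser T k with hWd
  have hYT : Y ≤ T := dser_le T _
  have haY : a ∈ Y := dser_succ_le T (k + 1) ha
  have hp : ∀ {x : Γ}, x ∈ T → IsPGroup 2 (zpowers x) := fun hx => hT.to_le (zpowers_le.2 hx)
  have hane : a ≠ 1 := fun h0 => ha1 (by rw [h0, map_one])
  have hNtop : ∀ v, v ∈ negPart (act C a) := fun v => hinv v
  -- the chain
  have hab : ∀ x ∈ Y, ∀ y ∈ Y, (ρ a - 1) * (ρ x - 1) * (ρ y - 1) = 0 := fun x hx y hy =>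
    hch.mul_mul ha hx hy
  have hsq : ∀ y ∈ Y, y * y = 1 ∨ y * y = a ∨ (Nat.card (Quo C) = 9 ∧ q = 3) := by
    intro y hy
    have h1 : (ρ (y * y) - 1) * (ρ a - 1) = 0 := by
      rw [(commute_sub_one (hca _ (mul_mem (hYT hy) (hYT hy)))).eq, ← h.sub_one_sq, ← mul_assoc]
      exact hab y hy y hy
    rcases h.root_cases ha2 ha1 (hp (mul_mem (hYT hy) (hYT hy))) (hca _ (mul_mem (hYT hy) (hYT hy))) h1
      with e | e | ⟨-, e2, e3⟩
    · exact .inl e
    · exact .inr (.inl e)
    · refine .inr (.inr ⟨?_, e2⟩)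
      rw [← e3, show negPart (act C a) = ⊤ from eq_top_iff.2 fun v _ => hNtop v, Subgroup.card_top]
  -- the group of the last step is not abelian
  have hYnc : ∃ x ∈ Y, ∃ y ∈ Y, x * y ≠ y * x := by
    by_contra hcon
    push Not at hcon
    have hbot : dser T (k + 2) ≤ ⊥ := commutator_le.2 fun x hx y hy =>
      mem_bot.2 (commutatorElement_eq_one_iff_mul_comm.2 (hcon x hx y hy))
    exact hane (mem_bot.1 (hbot ha))
  -- an involution `b`
  haveI : (Y.subgroupOf Wd).Normal := (normal_subgroupOf_iff_le_normalizer (dser_succ_le T k)).2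
    ((dser_le T k).trans (le_normalizer.trans (normalizer_le_dser T (k + 1))))
  have hYder : Y.subgroupOf Wd ≤ commutator Wd := by
    intro y hy
    rw [← mem_map_iff_mem Wd.subtype_injective, map_subtype_commutator]
    exact hy
  obtain ⟨v, hvY, hvc, hv2, hv1, hva⟩ := exists_central_involution (hT.to_le (dser_le T k)) hYder (by
    obtain ⟨x, hx, y, hy, hxy⟩ := hYnc
    exact ⟨⟨x, dser_succ_le T k hx⟩, hx, ⟨y, dser_succ_le T k hy⟩, hy,
      fun e => hxy (congrArg Subtype.val e)⟩) (⟨a, dser_succ_le T k haY⟩ : Wd)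
  obtain ⟨b, hbY, hb2, hb1, hba, hbc, hbmove⟩ := exists_central_mod hT hYT
    (le_normalizer.trans (normalizer_le_dser T _)) haY ha2 hca (v := (v : Γ)) hvY
    (congrArg Subtype.val hv2)
    (fun y hy => congrArg Subtype.val (hvc ⟨y, dser_succ_le T k hy⟩ hy))
    (fun e => hv1 (Subtype.ext e)) (fun e => hva (Subtype.ext e))
  have hbT : b ∈ T := hYT hbY
  have hab' : Commute b a := hca b hbT
  have hba2 : b * a * (b * a) = 1 := by
    rw [hab'.symm.mul_mul_mul_comm, hb2, ha2, mul_one]
  -- both parts are nontrivial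
  have hbz : act C b * act C b = 1 := by rw [← map_mul, hb2, map_one]
  obtain ⟨u₁, hu₁, hu₁1⟩ := (bot_or_exists_ne_one (negPart (act C b))).resolve_left fun h0 =>
    hb1 (hfaith b hbT (eq_one_of_negPart_eq_bot h.quo_odd hbz h0))
  obtain ⟨u₀, hu₀, hu₀1⟩ := (bot_or_exists_ne_one (fixPart (act C b))).resolve_left fun h0 => hba (by
    refine mul_right_cancel (b := a) ?_
    rw [ha2]
    refine hfaith _ (mul_mem hbT (hYT haY)) (MulEquiv.ext fun w => ?_)
    obtain ⟨s, hs, hn, hp'⟩ := exists_decomp (z := act C b) h.quo_odd hbz w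
    have h1 : s * act C b s = 1 := mem_bot.1 (h0 ▸ mem_fixPart.2 hp')
    have hw' : w = s * (act C b s)⁻¹ := by rw [← inv_eq_of_mul_eq_one_right h1, inv_inv, hs]
    rw [map_mul, MulAut.mul_apply, hinv, MulAut.one_apply, map_inv, hw', mem_negPart.1 hn, inv_inv])
  have hcard9 : Nat.card (Quo C) = 9 → q = 3 → False := fun hM9 hq3 => by
    obtain ⟨i, hi2, hi⟩ := (Nat.dvd_prime_pow hq).1 (show Nat.card (fixPart (act C b)) ∣ q ^ 2 by
      rw [hq3, show (3 : ℕ) ^ 2 = 9 from rfl, ← hM9]; exact card_subgroup_dvd_card _)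
    interval_cases i
    · rw [pow_zero, Subgroup.card_eq_one] at hi
      exact hu₀1 (mem_bot.1 (hi ▸ hu₀))
    · rw [pow_one] at hi
      exact h.card_fixPart_ne hb2 hi
    · have htop : fixPart (act C b) = ⊤ := eq_top_of_card_eq _ (by rw [hi, hM9, hq3]; rfl)
      have h1 : act C b u₁ = u₁ := htop.ge (mem_top u₁)
      exact hu₁1 (eq_one_of_neg_pos h.quo_odd hu₁ h1)
  have hsq2 : ∀ y ∈ Y, y * y = 1 ∨ y * y = a := fun y hy => by
    rcases hsq y hy with e | e | ⟨e, e'⟩
    · exact .inl e
    · exact .inr e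
    · exact (hcard9 e e').elim
  have hchain3 : ∀ y ∈ Y, (ρ y - 1) * (ρ b - 1) * (ρ a - 1) = 0 := fun y hy => by
    have hcy : Commute y b := (hbc y hy).symm
    rw [(commute_sub_one hcy).eq,
      ((commute_sub_one hab').mul_left (commute_sub_one (hca y (hYT hy)))).eq, ← mul_assoc]
    exact hab b hbY y hy
  by_cases hWb : ∀ x ∈ Wd, Commute x b
  · -- the whole layer fixes the two parts
    set F := fixPart (act C b) with hF
    have hWF : ∀ x ∈ Wd, ∀ w ∈ F, act C x w ∈ F := fun x hx w hw => by
      show act C b (act C x w) = act C x w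
      rw [← MulAut.mul_apply, ← map_mul, (hWb x hx).symm.eq, map_mul, MulAut.mul_apply,
        mem_fixPart.1 hw]
    let res : Wd →* MulAut F := MonoidHom.mk' (fun x =>
      { toFun := fun w => ⟨act C (x : Γ) w, hWF x x.2 w w.2⟩
        invFun := fun w => ⟨act C ((x : Γ))⁻¹ w, hWF _ (inv_mem x.2) w w.2⟩
        left_inv := fun w => Subtype.ext (by
          show act C ((x : Γ))⁻¹ (act C (x : Γ) w) = w
          rw [← MulAut.mul_apply, ← map_mul, inv_mul_cancel, map_one]; rfl)
        right_inv := fun w => Subtype.ext (by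
          show act C (x : Γ) (act C ((x : Γ))⁻¹ w) = w
          rw [← MulAut.mul_apply, ← map_mul, mul_inv_cancel, map_one]; rfl)
        map_mul' := fun w w' => Subtype.ext (map_mul (act C (x : Γ)) (w : Quo C) w') })
      fun x y => MulEquiv.ext fun w => Subtype.ext (by
        show act C ((x * y : Wd) : Γ) w = act C (x : Γ) (act C (y : Γ) w)
        rw [Subgroup.coe_mul, map_mul, MulAut.mul_apply])
    set P := res.range with hP
    set rY := (Y.subgroupOf Wd).map res.rangeRestrict with hrY
    haveI : rY.Normal := Normal.map inferInstance _ res.rangeRestrict_surjective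
    have hPp : IsPGroup 2 P :=
      (hT.to_le (dser_le T k)).of_surjective _ res.rangeRestrict_surjective
    have hrYle : rY ≤ commutator P := by
      refine (map_mono hYder).trans ?_
      rw [commutator_def, commutator_def, map_commutator]
      exact commutator_mono le_top le_top
    have haW : a ∈ Wd := dser_succ_le T k haY
    have hresa : res.rangeRestrict ⟨a, haW⟩ ≠ 1 := fun e => hu₀1 (h.quo_odd u₀ (by
      have e1 : act C a u₀ = u₀ :=
        congrArg Subtype.val (DFunLike.congr_fun (congrArg Subtype.val e) (⟨u₀, hu₀⟩ : F))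
      rw [hinv] at e1
      calc u₀ * u₀ = u₀ * u₀⁻¹ := by rw [e1]
        _ = 1 := mul_inv_cancel u₀))
    obtain ⟨_, ⟨⟨y, hyW⟩, hyY, rfl⟩, -, hy2, hy1, hya⟩ := exists_central_involution hPp hrYle (by
      by_contra hcon
      push Not at hcon
      refine hresa ?_
      have hbot : dser T (k + 2) ≤ ((res.rangeRestrict).ker).map Wd.subtype :=
        commutator_le.2 fun x hx y hy => ⟨⁅(⟨x, dser_succ_le T k hx⟩ : Wd), ⟨y, dser_succ_le T k hy⟩⁆,
          by
            show res.rangeRestrict _ = 1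
            rw [map_commutatorElement, commutatorElement_eq_one_iff_mul_comm]
            exact hcon _ (mem_map_of_mem _ (show (⟨x, dser_succ_le T k hx⟩ : Wd) ∈ Y.subgroupOf Wd from hx))
              _ (mem_map_of_mem _ (show (⟨y, dser_succ_le T k hy⟩ : Wd) ∈ Y.subgroupOf Wd from hy)),
          map_commutatorElement Wd.subtype _ _⟩
      obtain ⟨c, hc, hca'⟩ := hbot ha
      rw [show (⟨a, haW⟩ : Wd) = c from Subtype.ext hca'.symm]
      exact hc) (res.rangeRestrict ⟨a, haW⟩)
    have hval : ∀ (x : Wd) (w : F), ((((res.rangeRestrict x : P) : MulAut F) w : F) : Quo C) =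
        act C (x : Γ) w := fun x w => rfl
    have hy2' : ∀ w ∈ F, act C y (act C y w) = w := fun w hw => by
      have e := congrArg Subtype.val
        (DFunLike.congr_fun (congrArg Subtype.val hy2) (⟨w, hw⟩ : F))
      exact e
    have hyy : y * y = 1 := (hsq2 y hyY).resolve_right fun e => hu₀1 (h.quo_odd u₀ (by
      have e1 := hy2' u₀ hu₀
      rw [← MulAut.mul_apply, ← map_mul, e, hinv] at e1
      calc u₀ * u₀ = u₀ * u₀⁻¹ := by rw [e1]
        _ = 1 := mul_inv_cancel u₀))
    obtain ⟨w₀, hw₀, hw₀1, hw₀y⟩ : ∃ w ∈ F, w ≠ 1 ∧ act C y w = w := by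
      by_contra hcon
      push Not at hcon
      refine hya (Subtype.ext (MulEquiv.ext fun w => Subtype.ext ?_))
      rw [hval, hval, hinv]
      have h1 : (w : Quo C) * act C y w = 1 := by
        by_contra hne
        refine hcon _ (mul_mem w.2 (hWF y hyW w w.2)) hne ?_
        rw [map_mul, hy2' w w.2, mul_comm]
      exact eq_inv_of_mul_eq_one_right h1
    refine hy1 (Subtype.ext (MulEquiv.ext fun w => Subtype.ext ?_))
    rw [hval]
    exact h.act_eq_of_common_fixed hb2 hb1 ((hbc y hyY).symm) (hp (hYT hyY)) (hchain3 y hyY) hw₀1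
      (hinv w₀) hw₀y hw₀ w.2
  · -- some element exchanges the parts; this happens only at the bottom
    push Not at hWb
    obtain ⟨σ, hσW, hσ⟩ := hWb
    rcases Nat.eq_zero_or_pos k with rfl | hk
    swap
    · exact hσ (commute_derived_of_moves hab'.symm ha2 hca hbmove σ
        (dser_antitone T (show 1 ≤ k from hk) hσW))
    have hσT : σ ∈ T := hσW
    have hσb : σ * b * σ⁻¹ = b * a :=
      (hbmove σ hσT).resolve_left fun e => hσ (mul_inv_eq_iff_eq_mul.1 e)
    set b' := b * a with hb'
    have hσb' : σ * b' * σ⁻¹ = b := by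
      rw [hb', show σ * (b * a) * σ⁻¹ = σ * b * σ⁻¹ * (σ * a * σ⁻¹) by group, hσb,
        show σ * a * σ⁻¹ = a by rw [(hca σ hσT).eq, mul_inv_cancel_right], hb', mul_assoc, ha2,
        mul_one]
    have hb'1 : b' ≠ 1 := fun e => hba (by
      rw [hb', mul_eq_one_iff_eq_inv, inv_eq_of_mul_eq_one_right ha2] at e
      exact e)
    have hb'T : b' ∈ T := mul_mem hbT (hYT haY)
    set T1 := T ⊓ centralizer ({b} : Set Γ) with hT1
    have hT1mem : ∀ {t : Γ}, t ∈ T1 ↔ t ∈ T ∧ Commute t b := fun {t} => by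
      rw [hT1, mem_inf, mem_centralizer_singleton_iff]; rfl
    have hneg_fix : ∀ {w : Quo C}, act C b w = w⁻¹ → act C b' w = w := fun {w} hw => by
      rw [hb', map_mul, MulAut.mul_apply, hinv, map_inv, hw, inv_inv]
    have hfix_neg : ∀ {w : Quo C}, act C b' w = w → act C b w = w⁻¹ := fun {w} hw => by
      rw [hb', map_mul, MulAut.mul_apply, hinv, map_inv, inv_eq_iff_eq_inv] at hw
      exact hw
    have hch1 : ∀ t ∈ T1, (ρ t - 1) * (ρ b - 1) * (ρ a - 1) = 0 := fun t ht => by
      obtain ⟨htT, htb⟩ := hT1mem.1 ht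
      rw [(commute_sub_one htb).eq,
        ((commute_sub_one hab').mul_left (commute_sub_one (hca t htT))).eq, ← mul_assoc]
      have := hch _ (isChain_succ ρ (n := 2) ha (isChain_succ ρ (n := 1) hbY
        (isChain_succ ρ (n := 0) (show t ∈ dser T 0 from htT) rfl)))
      rwa [mul_one, ← mul_assoc] at this
    have haa1 : (ρ a - 1) * (ρ a - 1) = 0 := h.sub_one_mul_self ha2
    have hb'a : (ρ b' - 1) * (ρ a - 1) = (ρ b - 1) * (ρ a - 1) := by
      have e : ρ b' - 1 = ρ b * (ρ a - 1) + (ρ b - 1) := by rw [hb', map_mul]; noncomm_ring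
      rw [e, add_mul, mul_assoc, haa1, mul_zero, zero_add]
    have hch1' : ∀ t ∈ T1, (ρ t - 1) * (ρ b' - 1) * (ρ a - 1) = 0 := fun t ht => by
      rw [mul_assoc, hb'a, ← mul_assoc]; exact hch1 t ht
    have hT1b' : ∀ t ∈ T1, Commute t b' := fun t ht =>
      (hT1mem.1 ht).2.mul_right (hca t (hT1mem.1 ht).1)
    -- elements fixing one part
    have hK : ∀ t ∈ T1, (∀ w, act C b w = w⁻¹ → act C t w = w) → t = 1 ∨ t = b' := by
      intro t ht htfix
      obtain ⟨htT, htb⟩ := hT1mem.1 ht
      set t' := σ * t * σ⁻¹ with ht'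
      have ht'T : t' ∈ T := mul_mem (mul_mem hσT htT) (inv_mem hσT)
      have ht'b : Commute t' b := by
        show t' * b = b * t'
        rw [← hσb', ht']
        calc σ * t * σ⁻¹ * (σ * b' * σ⁻¹) = σ * (t * b') * σ⁻¹ := by group
          _ = σ * (b' * t) * σ⁻¹ := by rw [(hT1b' t ht).eq]
          _ = σ * b' * σ⁻¹ * (σ * t * σ⁻¹) := by group
      have ht'fix : ∀ w, act C b w = w → act C t' w = w := by
        intro w hw
        have h1 : act C b (act C σ⁻¹ w) = (act C σ⁻¹ w)⁻¹ := hfix_neg (by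
          rw [← MulAut.mul_apply, ← map_mul, show b' * σ⁻¹ = σ⁻¹ * b by rw [← hσb']; group, map_mul,
            MulAut.mul_apply, hw])
        rw [ht', map_mul, map_mul, MulAut.mul_apply, MulAut.mul_apply, htfix _ h1, ← MulAut.mul_apply,
          ← map_mul, mul_inv_cancel, map_one, MulAut.one_apply]
      have hQ1 : (ρ t - 1) * (ρ b' - 1) = 0 := by
        refine h.eq_zero_of_mul_sub_one (P := zpowers t ⊔ zpowers b') ((hp htT).to_sup_of_normal_left'
          (TwoLength.isPGroup_two_zpowers hba2)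
          (zpowers_le.2 (TwoLength.mem_normalizer_zpowers (hT1b' t ht).symm)))
          (fun c _ hc => (((hc t (mem_sup_left (mem_zpowers t))).map ρ).sub_left (Commute.one_left _)
            |>.mul_left (((hc b' (mem_sup_right (mem_zpowers b'))).map ρ).sub_left
              (Commute.one_left _))).eq) (hch1' t ht) hu₁1 (hinv u₁) fun x hx => ?_
        have hle : (zpowers t ⊔ zpowers b' : Subgroup Γ) ≤
            (MulAction.stabilizer (MulAut (Quo C)) u₁).comap (act C) :=
          sup_le (zpowers_le.2 (htfix u₁ hu₁)) (zpowers_le.2 (hneg_fix hu₁))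
        exact hle hx
      have hQ2 : (ρ t' - 1) * (ρ b - 1) = 0 := by
        refine h.eq_zero_of_mul_sub_one (P := zpowers t' ⊔ zpowers b) ((hp ht'T).to_sup_of_normal_left'
          (TwoLength.isPGroup_two_zpowers hb2)
          (zpowers_le.2 (TwoLength.mem_normalizer_zpowers ht'b.symm)))
          (fun c _ hc => (((hc t' (mem_sup_left (mem_zpowers t'))).map ρ).sub_left (Commute.one_left _)
            |>.mul_left (((hc b (mem_sup_right (mem_zpowers b))).map ρ).sub_left
              (Commute.one_left _))).eq) (hch1 t' (hT1mem.2 ⟨ht'T, ht'b⟩)) hu₀1 (hinv u₀)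
          fun x hx => ?_
        have hle : (zpowers t' ⊔ zpowers b : Subgroup Γ) ≤
            (MulAction.stabilizer (MulAut (Quo C)) u₀).comap (act C) :=
          sup_le (zpowers_le.2 (ht'fix u₀ hu₀)) (zpowers_le.2 hu₀)
        exact hle hx
      set y := ⁅σ, t⁆ with hy
      have hyY : y ∈ Y := commutator_mem_commutator (hσT : σ ∈ dser T 0) (htT : t ∈ dser T 0)
      have hyt : t' = y * t := by rw [hy, ht', commutatorElement_def]; group
      have h3 : (ρ a - 1) * (ρ y - 1) * (ρ t - 1) = 0 := by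
        have := hch _ (isChain_succ ρ (n := 2) ha (isChain_succ ρ (n := 1) hyY
          (isChain_succ ρ (n := 0) (show t ∈ dser T 0 from htT) rfl)))
        rwa [mul_one, ← mul_assoc] at this
      have hcat : Commute (ρ a - 1) (ρ t - 1) := commute_sub_one (hca t htT).symm
      have h4 : (ρ a - 1) * (ρ t' - 1) * (ρ t - 1) = (ρ a - 1) * (ρ (t * t) - 1) := by
        have e : ρ t' - 1 = (ρ y - 1) * ρ t + (ρ t - 1) := by rw [hyt, map_mul]; noncomm_ring
        rw [e, mul_add, add_mul, mul_assoc (ρ a - 1) (ρ t - 1), h.sub_one_sq, mul_assoc (ρ a - 1),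
          mul_assoc (ρ y - 1), (((Commute.refl (ρ t)).sub_right (Commute.one_right _))).eq,
          ← mul_assoc (ρ y - 1), ← mul_assoc, ← mul_assoc, h3, zero_mul, zero_add]
      have h5 : (ρ a - 1) * (ρ t' - 1) * (ρ t - 1) = 0 := by
        have hta : (ρ t - 1) * (ρ a - 1) = (ρ t - 1) * (ρ b - 1) := by
          have e : ρ a - 1 = (ρ b' - 1) * ρ b + (ρ b - 1) := by
            have e' : ρ a = ρ b' * ρ b := by
              rw [← map_mul, hb', mul_assoc, ← hab'.eq, ← mul_assoc, hb2, one_mul]
            rw [e']; noncomm_ring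
          rw [e, mul_add, ← mul_assoc, hQ1, zero_mul, zero_add]
        have hcat' : Commute (ρ a - 1) (ρ t' - 1) := commute_sub_one (hca t' ht'T).symm
        rw [hcat'.eq, mul_assoc, hcat.eq, hta, (commute_sub_one htb).eq, ← mul_assoc, hQ2, zero_mul]
      have htt : t * t = 1 := by
        have h6 : (ρ (t * t) - 1) * (ρ a - 1) = 0 := by
          rw [(commute_sub_one (hca _ (mul_mem htT htT))).eq, ← h4, h5]
        rcases h.root_cases ha2 ha1 (hp (mul_mem htT htT)) (hca _ (mul_mem htT htT)) h6 with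
          e | e | ⟨-, e2, e3⟩
        · exact e
        · refine absurd (eq_one_of_neg_pos h.quo_odd (hinv u₁) ?_) hu₁1
          rw [← e, map_mul, MulAut.mul_apply, htfix u₁ hu₁, htfix u₁ hu₁]
        · exact (hcard9 (by
            rw [← e3, show negPart (act C a) = ⊤ from eq_top_iff.2 fun v _ => hNtop v,
              Subgroup.card_top]) e2).elim
      -- the involution
      have hext : ∀ {s : Γ}, s ∈ T → (∀ w, act C b w = w⁻¹ → act C s w = w) →
          (∀ w, act C b w = w → act C s w = w) → s = 1 := fun {s} hsT hn hf =>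
        hfaith s hsT (MulEquiv.ext fun w => by
          obtain ⟨r, hr, hn', hp'⟩ := exists_decomp (z := act C b) h.quo_odd hbz w
          have hsplit : w = r * (act C b r)⁻¹ * (r * act C b r) := by
            rw [mul_mul_mul_comm, inv_mul_cancel, mul_one, hr]
          rw [MulAut.one_apply, hsplit, map_mul, hn _ (mem_negPart.1 hn'), hf _ hp'])
      by_cases hfx : ∃ w, w ≠ 1 ∧ act C b w = w ∧ act C t w = w
      · obtain ⟨w, hw1, hwb, hwt⟩ := hfx
        exact .inl (hext htT htfix fun w' hw' =>
          h.act_eq_of_common_fixed hb2 hb1 htb (hp htT) (hch1 t ht) hw1 (hinv w) hwt hwb hw')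
      · push Not at hfx
        right
        have e : t * b' = 1 := hext (mul_mem htT hb'T) (fun w hw => by
            rw [map_mul, MulAut.mul_apply, hneg_fix hw, htfix w hw]) fun w hw => by
          have htw : act C t w = w⁻¹ := by
            refine eq_inv_of_mul_eq_one_right ?_
            by_contra hne
            refine hfx _ hne ?_ ?_
            · rw [map_mul, hw, ← MulAut.mul_apply, ← map_mul, htb.symm.eq, map_mul, MulAut.mul_apply, hw]
            · rw [map_mul, ← MulAut.mul_apply, ← map_mul, htt, map_one, MulAut.one_apply, mul_comm]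
          rw [map_mul, MulAut.mul_apply, hb', map_mul, MulAut.mul_apply, hinv, map_inv, hw, map_inv,
            htw, inv_inv]
        rw [mul_eq_one_iff_eq_inv] at e
        rw [e]
        exact inv_eq_of_mul_eq_one_right hba2
    -- the inverted part has nine elements
    obtain ⟨y, hy, hya⟩ : ∃ y ∈ Y, y * y = a := by
      by_contra hcon
      push Not at hcon
      have hsq1 : ∀ y ∈ Y, y * y = 1 := fun y hy => (hsq2 y hy).resolve_right (hcon y hy)
      obtain ⟨x, hx, y, hy, hxy⟩ := hYnc
      refine hxy ?_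
      have e1 := hsq1 _ (mul_mem hx hy)
      calc x * y = (x * y)⁻¹ := (inv_eq_of_mul_eq_one_right e1).symm
        _ = y * x := by
          rw [mul_inv_rev, inv_eq_of_mul_eq_one_right (hsq1 x hx),
            inv_eq_of_mul_eq_one_right (hsq1 y hy)]
    have hu₁fix : act C b' u₁ = u₁ := hneg_fix hu₁
    obtain ⟨c₁, hc₁, hc₁b⟩ := h.exists_fixed_lift (TwoLength.isPGroup_two_zpowers hba2)
      (v := u₁) fun x hx => by
        have hle : zpowers b' ≤ (MulAction.stabilizer (MulAut (Quo C)) u₁).comap (act C) :=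
          zpowers_le.2 hu₁fix
        exact hle hx
    have hneg9 : Nat.card (negPart (act C b)) = 9 := by
      set X := centralizer ({b'} : Set Γ) with hX
      have hXmem : ∀ {x : Γ}, x ∈ X ↔ Commute x b' := fun {x} => mem_centralizer_singleton_iff
      set C1 := C ⊓ X with hC1
      set V := LinearMap.range (ρ b' - 1) with hV
      obtain ⟨Γ', _, _, ρ', f, hf, hρ', hsys⟩ := exists_sys h.odd ρ (X := X) (C := C1) inf_le_right
        (fun x hx => inf_normalizer_le_normalizer_inf
          ⟨by rw [normalizer_eq_top]; trivial, le_normalizer hx⟩)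
        (h.pgroup.to_le inf_le_left) V (fun x hx => by
          rintro _ ⟨s, rfl⟩
          refine ⟨ρ x s, ?_⟩
          rw [← Module.End.mul_apply, ← Module.End.mul_apply,
            ((((hXmem.1 hx).map ρ)).sub_right (Commute.one_right _)).eq])
        (fun c hc d hd => by
          obtain ⟨ζ, hζ⟩ := h.scalar c hc.1 d hd.1
          exact ⟨ζ, fun s _ => by rw [hζ]; rfl⟩)
      set C' := (C1.subgroupOf X).map f with hC'
      haveI : C'.Normal := hsys.normal
      have hVne : ∃ s ∈ V, s ≠ 0 := by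
        by_contra hcon
        push Not at hcon
        refine hb'1 (h.inj ?_)
        rw [map_one, ← sub_eq_zero]
        exact LinearMap.ext fun s => hcon _ ⟨s, rfl⟩
      have hprop : ∀ (w : Γ) (hw : w ∈ X), f ⟨w, hw⟩ = 1 ↔ ∀ s ∈ V, ρ w s = s := by
        intro w hw
        constructor
        · intro e s hs
          have := hρ' ⟨w, hw⟩ ⟨s, hs⟩
          rw [e, map_one] at this
          exact this.symm
        · intro e
          refine hsys.inj (LinearMap.ext fun s => Subtype.ext ?_)
          rw [hρ', map_one]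
          exact e _ s.2
      have hcomm1 : ∀ c ∈ C1, ∀ d ∈ C1, ∀ hcd : ⁅c, d⁆ ∈ X, f ⟨⁅c, d⁆, hcd⟩ = 1 → ⁅c, d⁆ = 1 := by
        intro c hc d hd hcd e
        obtain ⟨ζ, hζ⟩ := h.scalar c hc.1 d hd.1
        obtain ⟨s, hs, hs0⟩ := hVne
        have h1 := (hprop _ hcd).1 e s hs
        rw [hζ, LinearMap.smul_apply, Module.End.one_apply] at h1
        have hζ1 : ζ = 1 := smul_left_injective K hs0 (h1.trans (one_smul K s).symm)
        exact h.inj (by rw [hζ, hζ1, one_smul, map_one])
      let inc : C1.subgroupOf X →* C' := f.subgroupMap (C1.subgroupOf X)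
      have hinc : Function.Surjective inc := MonoidHom.subgroupMap_surjective f _
      let κ₁ : C1.subgroupOf X →* Quo C :=
        (cls C).comp ((X.subtype.comp (C1.subgroupOf X).subtype).codRestrict C fun c => c.2.1)
      let κ₂ : C1.subgroupOf X →* Quo C' := (cls C').comp inc
      have hκval : ∀ (c : C1.subgroupOf X), κ₁ c = cls C ⟨((c : X) : Γ), c.2.1⟩ := fun c => rfl
      have hκ₂s : Function.Surjective κ₂ := (cls_surjective C').comp hinc
      have hrange : κ₁.range = negPart (act C b) := by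
        refine le_antisymm ?_ fun w hw => ?_
        · rintro _ ⟨c, rfl⟩
          refine hfix_neg ?_
          rw [hκval, act_cls]
          refine congrArg (cls C) (Subtype.ext ?_)
          rw [MulAut.conjNormal_apply]
          exact mul_inv_eq_iff_eq_mul.2 (hXmem.1 c.2.2).symm.eq
        · obtain ⟨c, hcw, hcb⟩ := h.exists_fixed_lift (TwoLength.isPGroup_two_zpowers hba2)
            (v := w) fun x hx => by
              have hle : zpowers b' ≤ (MulAction.stabilizer (MulAut (Quo C)) w).comap (act C) :=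
                zpowers_le.2 (hneg_fix hw)
              exact hle hx
          have hcX : (c : Γ) ∈ X := hXmem.2 (hcb b' (mem_zpowers b')).symm
          exact ⟨⟨⟨(c : Γ), hcX⟩, ⟨c.2, hcX⟩⟩, hcw⟩
      have hkiff : ∀ c : C1.subgroupOf X, κ₁ c = 1 ↔ κ₂ c = 1 := by
        intro c
        show _ ↔ cls C' (inc c) = 1
        rw [hκval, hsys.cls_eq_one]
        constructor
        · intro e
          have h1 := h.cls_eq_one.1 e
          rintro _ ⟨d, hd, rfl⟩
          show f (c : X) * f d = f d * f (c : X)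
          rw [← map_mul, ← map_mul]
          exact congrArg f (Subtype.ext (h1 _ hd.1))
        · intro e
          refine h.form_nondeg _ fun w => ?_
          obtain ⟨s, hs, hn', hp'⟩ := exists_decomp (z := act C b') h.quo_odd
            (by rw [← map_mul, hba2, map_one]) w
          have hsplit : w = s * (act C b' s)⁻¹ * (s * act C b' s) := by
            rw [mul_mul_mul_comm, inv_mul_cancel, mul_one, hs]
          have hcfix : act C b' (cls C ⟨((c : X) : Γ), c.2.1⟩) = cls C ⟨((c : X) : Γ), c.2.1⟩ := by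
            rw [act_cls]
            refine congrArg (cls C) (Subtype.ext ?_)
            rw [MulAut.conjNormal_apply]
            exact mul_inv_eq_iff_eq_mul.2 (hXmem.1 c.2.2).symm.eq
          rw [hsplit, h.form_mul_right, h.form_orth' hcfix (mem_negPart.1 hn'), one_mul]
          obtain ⟨d, hd, hdb⟩ := h.exists_fixed_lift (TwoLength.isPGroup_two_zpowers hba2)
            (v := s * act C b' s) fun x hx => by
              have hle : zpowers b' ≤
                  (MulAction.stabilizer (MulAut (Quo C)) (s * act C b' s)).comap (act C) :=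
                zpowers_le.2 hp'
              exact hle hx
          rw [← hd]
          refine Subtype.ext ?_
          rw [h.coe_form, Subgroup.coe_one]
          have hdX : (d : Γ) ∈ X := hXmem.2 (hdb b' (mem_zpowers b')).symm
          let c' : X := (c : X)
          let d' : X := ⟨(d : Γ), hdX⟩
          have e2 := e _ (mem_map_of_mem f (show d' ∈ C1.subgroupOf X from ⟨d.2, hdX⟩))
          have e3 : f ⁅c', d'⁆ = 1 := by
            rw [map_commutatorElement, commutatorElement_eq_one_iff_mul_comm]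
            exact e2
          exact hcomm1 ((c' : X) : Γ) c.2 (d : Γ) ⟨d.2, hdX⟩ (⁅c', d'⁆ : X).2 e3
      have haX : a ∈ X := hXmem.2 (hca b' hb'T).symm
      have hyX : y ∈ X := hXmem.2 (((hbc y hy).symm).mul_right (hca y (hYT hy)))
      set a' := f ⟨a, haX⟩ with ha'
      set y' := f ⟨y, hyX⟩ with hy'
      have ha'2 : a' * a' = 1 := by
        rw [ha', ← map_mul, show (⟨a, haX⟩ : X) * ⟨a, haX⟩ = 1 from Subtype.ext ha2, map_one]
      have hinv' : ∀ w, act C' a' w = w⁻¹ := by
        intro w
        obtain ⟨c, rfl⟩ := hκ₂s w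
        let c2 : C1.subgroupOf X := ⟨(⟨a, haX⟩ : X) * (c : X) * (⟨a, haX⟩ : X)⁻¹,
          show a * ((c : X) : Γ) * a⁻¹ ∈ C ⊓ X from mem_inf.2 ⟨h.normal.conj_mem _ c.2.1 a,
            mul_mem (mul_mem haX c.2.2) (inv_mem haX)⟩⟩
        have e1 : κ₁ c2 = (κ₁ c)⁻¹ := by
          rw [hκval, hκval, ← hinv, act_cls]
          refine congrArg (cls C) (Subtype.ext ?_)
          rw [MulAut.conjNormal_apply]
          rfl
        have e2 : κ₂ (c2 * c) = 1 := (hkiff _).1 (by rw [map_mul, e1, inv_mul_cancel])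
        rw [map_mul] at e2
        rw [inv_eq_of_mul_eq_one_left e2]
        show act C' a' (cls C' (inc c)) = cls C' (inc c2)
        rw [act_cls]
        refine congrArg (cls C') (Subtype.ext ?_)
        rw [MulAut.conjNormal_apply]
        show _ = f (⟨a, haX⟩ * (c : X) * (⟨a, haX⟩ : X)⁻¹)
        rw [map_mul, map_mul, map_inv]
        rfl
      obtain ⟨c₀, hc₀⟩ : ∃ c, κ₁ c = u₁ := by
        have : u₁ ∈ κ₁.range := by rw [hrange]; exact hu₁
        exact this
      have hact' : act C' a' ≠ 1 := fun e0 => hu₁1 (by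
        have e1 : κ₂ c₀ = 1 := hsys.quo_odd _ (by
          have e2 := hinv' (κ₂ c₀)
          rw [e0, MulAut.one_apply] at e2
          calc κ₂ c₀ * κ₂ c₀ = κ₂ c₀ * (κ₂ c₀)⁻¹ := congrArg _ e2
            _ = 1 := mul_inv_cancel _)
        rw [← hc₀, (hkiff c₀).2 e1])
      have hy'a : y' * y' = a' := by
        rw [hy', ha', ← map_mul]
        exact congrArg f (Subtype.ext hya)
      have hrel : (ρ' y' - 1) * (ρ' a' - 1) = 0 := by
        refine LinearMap.ext fun s => Subtype.ext ?_
        obtain ⟨_, s₀, rfl⟩ := s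
        rw [Module.End.mul_apply, LinearMap.sub_apply, LinearMap.sub_apply, Module.End.one_apply,
          Module.End.one_apply, LinearMap.zero_apply, Submodule.coe_sub, hρ', Submodule.coe_sub, hρ',
          ZeroMemClass.coe_zero]
        have e : (ρ y - 1) * (ρ a - 1) * (ρ b' - 1) = 0 := by
          rw [mul_assoc, (commute_sub_one (hca b' hb'T).symm).eq, hb'a, ← mul_assoc]
          exact hchain3 y hy
        exact LinearMap.congr_fun e s₀
      rcases hsys.root_cases ha'2 hact' ((hp (hYT hy)).to_le le_rfl |> fun hpy => by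
          have : IsPGroup 2 (zpowers (⟨y, hyX⟩ : X)) := by
            intro g
            obtain ⟨i, hi⟩ := mem_zpowers_iff.1 g.2
            obtain ⟨j, hj⟩ := hpy ⟨y ^ i, zpow_mem (mem_zpowers y) i⟩
            refine ⟨j, Subtype.ext (Subtype.ext ?_)⟩
            have h' : (y ^ i) ^ 2 ^ j = 1 := congrArg Subtype.val hj
            show ((g : X) : Γ) ^ 2 ^ j = 1
            rw [← hi]
            exact h'
          rw [hy', ← MonoidHom.map_zpowers]
          exact this.map f)
        (show Commute y' a' from (show Commute (⟨y, hyX⟩ : X) ⟨a, haX⟩ from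
          Subtype.ext (hca y (hYT hy)).eq).map f) hrel with e | e | ⟨-, e2, e3⟩
      · exact absurd (by rw [← hy'a, e, one_mul, map_one]) hact'
      · refine absurd ?_ hact'
        rw [show a' = 1 by
          calc a' = y' * y' := hy'a.symm
            _ = 1 := by rw [e, ha'2], map_one]
      · rw [show negPart (act C' a') = ⊤ from eq_top_iff.2 fun w _ => hinv' w, Subgroup.card_top] at e3
        rw [← hrange, ← e3]
        have hker : κ₁.ker = κ₂.ker := Subgroup.ext fun c => hkiff c
        calc Nat.card κ₁.range = Nat.card (C1.subgroupOf X ⧸ κ₁.ker) :=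
              (Nat.card_congr (QuotientGroup.quotientKerEquivRange κ₁).toEquiv).symm
          _ = Nat.card (C1.subgroupOf X ⧸ κ₂.ker) := by rw [hker]
          _ = Nat.card (Quo C') :=
              Nat.card_congr (QuotientGroup.quotientKerEquivOfSurjective κ₂ hκ₂s).toEquiv
    -- at most sixteen elements centralise `b`
    have hT1card : Nat.card T1 ≤ 16 := by
      classical
      set N := negPart (act C b) with hN
      have hmap : ∀ t : T1, act C (t : Γ) u₁ ∈ N ∧ act C (t : Γ) u₁ ≠ 1 := fun t =>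
        ⟨mem_negPart_of_commute ((hT1mem.1 t.2).2.map (act C)) hu₁,
          fun e => hu₁1 ((act C (t : Γ)).injective (e.trans (map_one _).symm))⟩
      haveI : Fintype T1 := Fintype.ofFinite _
      haveI : Fintype N := Fintype.ofFinite _
      let Φ : T1 → N := fun t => ⟨act C (t : Γ) u₁, (hmap t).1⟩
      have h1 : (Finset.univ : Finset T1).card ≤ 2 * (Finset.univ.erase (1 : N)).card := by
        refine Finset.card_le_mul_card_image_of_maps_to (f := Φ) (fun t _ => Finset.mem_erase.2
          ⟨fun e => (hmap t).2 (congrArg Subtype.val e), Finset.mem_univ _⟩) 2 fun w _ => ?_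
        rcases (Finset.univ.filter fun t => Φ t = w).eq_empty_or_nonempty with he | ⟨t₀, ht₀⟩
        · rw [he]; simp
        have hbb' : b' ∈ T1 := hT1mem.2 ⟨hb'T, (Commute.refl b).mul_left hab'.symm⟩
        refine (Finset.card_le_card (t := ({t₀, t₀ * ⟨b', hbb'⟩} : Finset T1)) fun t ht => ?_).trans
          Finset.card_le_two
        rw [Finset.mem_filter] at ht ht₀
        have hs := hK _ (t₀⁻¹ * t : T1).2 (fun x hx => by
          have hu : act C (((t₀⁻¹ * t : T1)) : Γ) u₁ = u₁ := by
            have e : act C (t : Γ) u₁ = act C (t₀ : Γ) u₁ := congrArg Subtype.val (ht.2.trans ht₀.2.symm)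
            rw [Subgroup.coe_mul, InvMemClass.coe_inv, map_mul, MulAut.mul_apply, e, ← MulAut.mul_apply,
              ← map_mul, inv_mul_cancel, map_one, MulAut.one_apply]
          exact h.act_eq_of_common_fixed hba2 hb'1 (hT1b' _ (t₀⁻¹ * t : T1).2)
            (hp (hT1mem.1 (t₀⁻¹ * t : T1).2).1) (hch1' _ (t₀⁻¹ * t : T1).2) hu₁1 (hinv u₁) hu
            (hneg_fix hu₁) (hneg_fix hx))
        rw [Finset.mem_insert, Finset.mem_singleton]
        rcases hs with e | e
        · exact .inl (inv_mul_eq_one.1 (Subtype.ext e)).symm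
        · exact .inr (inv_mul_eq_iff_eq_mul.1 (Subtype.ext e))
      rw [Finset.card_erase_of_mem (Finset.mem_univ _), Finset.card_univ, Finset.card_univ,
        ← Nat.card_eq_fintype_card, ← Nat.card_eq_fintype_card, hneg9] at h1
      omega
    -- so the derived group is abelian
    have hYT1 : Y ≤ T1 := fun z hz => hT1mem.2 ⟨hYT hz, (hbc z hz).symm⟩
    have hne : Y ≠ T1 := by
      intro e
      have hsup : zpowers (⟨σ, hσT⟩ : T) ⊔ commutator T = ⊤ := by
        rw [eq_top_iff]
        intro x _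
        have key : ∀ x : T, Commute (x : Γ) b → x ∈ commutator T := fun x hx => by
          rw [← mem_map_iff_mem T.subtype_injective, map_subtype_commutator]
          have : (x : Γ) ∈ Y := e ▸ hT1mem.2 ⟨x.2, hx⟩
          exact this
        rcases hbmove x x.2 with hxb | hxb
        · exact mem_sup_right (key x (mul_inv_eq_iff_eq_mul.1 hxb))
        · have h1 : Commute (((⟨σ, hσT⟩ : T)⁻¹ * x : T) : Γ) b := by
            refine mul_inv_eq_iff_eq_mul.1 ?_
            rw [Subgroup.coe_mul, InvMemClass.coe_inv, show σ⁻¹ * (x : Γ) * b * (σ⁻¹ * (x : Γ))⁻¹ =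
              σ⁻¹ * ((x : Γ) * b * (x : Γ)⁻¹) * σ by group, hxb, ← hσb]
            group
          rw [show x = (⟨σ, hσT⟩ : T) * ((⟨σ, hσT⟩ : T)⁻¹ * x) by group]
          exact mul_mem (mem_sup_left (mem_zpowers _)) (mem_sup_right (key _ h1))
      have htop : zpowers (⟨σ, hσT⟩ : T) = ⊤ := frattini_nongenerating
        (eq_top_iff.2 (hsup ▸ sup_le_sup le_rfl (PGroup.Kulakoff.commutator_le_frattini hT)))
      obtain ⟨x, hx, z, hz, hxz⟩ := hYnc
      obtain ⟨i, hi⟩ := mem_zpowers_iff.1 (htop.ge (mem_top (⟨x, hYT hx⟩ : T)))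
      obtain ⟨j, hj⟩ := mem_zpowers_iff.1 (htop.ge (mem_top (⟨z, hYT hz⟩ : T)))
      refine hxz (congrArg Subtype.val (?_ : (⟨x, hYT hx⟩ : T) * ⟨z, hYT hz⟩ =
        ⟨z, hYT hz⟩ * ⟨x, hYT hx⟩))
      rw [← hi, ← hj]
      exact (Commute.zpow_zpow_self _ i j).eq
    obtain ⟨x, hx, z, hz, hxz⟩ := hYnc
    refine hxz ?_
    obtain ⟨n, hn⟩ := IsPGroup.iff_card.1 (hT.to_le hYT)
    have hn3 : n ≤ 3 := by
      obtain ⟨n', hn'⟩ := IsPGroup.iff_card.1 (hT.to_le (inf_le_left : T1 ≤ T))
      have hlt : n < n' := by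
        by_contra hge
        push Not at hge
        exact hne (eq_of_le_of_card_ge hYT1 (by rw [hn, hn']; exact Nat.pow_le_pow_right two_pos hge))
      rw [hn'] at hT1card
      have : n' ≤ 4 := (Nat.pow_le_pow_iff_right (le_refl 2)).1 (hT1card.trans_eq rfl)
      omega
    have hcen4 : 4 ≤ Nat.card (center Y) := by
      classical
      have hc : ∀ c : Γ, ∀ hc : c ∈ Y, (∀ y ∈ Y, Commute c y) → (⟨c, hc⟩ : Y) ∈ center Y :=
        fun c hcY hcc => mem_center_iff.2 fun y => Subtype.ext (hcc y y.2).eq.symm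
      let g : Bool × Bool → center Y := fun p =>
        (if p.1 then ⟨⟨a, haY⟩, hc a haY fun y hy => (hca y (hYT hy)).symm⟩ else 1) *
          (if p.2 then ⟨⟨b, hbY⟩, hc b hbY hbc⟩ else 1)
      have hg : Function.Injective g := by
        have hv : ∀ p : Bool × Bool, (((g p : center Y) : Y) : Γ) =
            (if p.1 then a else 1) * (if p.2 then b else 1) := fun p => by
          obtain ⟨_ | _, _ | _⟩ := p <;> rfl
        intro p p' e
        have e' := congrArg (fun c : center Y => ((c : Y) : Γ)) e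
        simp only [hv] at e'
        have hab1 : a * b ≠ 1 := fun e0 => hb'1 (by rw [hb', hab'.eq, e0])
        obtain ⟨_ | _, _ | _⟩ := p <;> obtain ⟨_ | _, _ | _⟩ := p' <;>
          simp only [Bool.false_eq_true, if_false, if_true, one_mul, mul_one] at e' <;>
          first
          | rfl
          | exact absurd e' hb1
          | exact absurd e'.symm hb1
          | exact absurd e' hane
          | exact absurd e'.symm hane
          | exact absurd e' hba
          | exact absurd e'.symm hba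
          | exact absurd e' hab1
          | exact absurd e'.symm hab1
          | exact absurd (left_eq_mul.1 e') hb1
          | exact absurd (left_eq_mul.1 e'.symm) hb1
          | exact absurd (right_eq_mul.1 e') hane
          | exact absurd (right_eq_mul.1 e'.symm) hane
      calc 4 = Nat.card (Bool × Bool) := by simp
        _ ≤ Nat.card (center Y) := Nat.card_le_card_of_injective g hg
    have hidx : (center Y).index ≤ 2 := by
      have hcard := (center Y).card_mul_index
      rw [hn] at hcard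
      have : 2 ^ n ≤ 8 := by
        calc 2 ^ n ≤ 2 ^ 3 := Nat.pow_le_pow_right two_pos hn3
          _ = 8 := rfl
      nlinarith
    haveI : IsCyclic (Y ⧸ center Y) := by
      rw [Subgroup.index_eq_card] at hidx
      rcases Nat.lt_or_ge (Nat.card (Y ⧸ center Y)) 2 with h2 | h2
      · haveI : Subsingleton (Y ⧸ center Y) := by
          rw [← Finite.card_le_one_iff_subsingleton]; omega
        infer_instance
      · exact isCyclic_of_prime_card (p := 2) (le_antisymm hidx h2)
    exact congrArg Subtype.val (commutative_of_cyclic_center_quotient (QuotientGroup.mk' (center Y))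
      (QuotientGroup.ker_mk' _).le (⟨x, hx⟩ : Y) ⟨z, hz⟩)

end Sys

end CfsgLib.Solvable.TwoLengthDerived
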