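import Cfsg.Agent.Lib.Solvable.TwoLengthDerived.DeepCore

/-!
# No deep chains in a block, the reduction

If the chains of length `k + 3` vanish on a block, the `k + 2`-nd derived subgroup acts trivially on
the plane quotient.
-/

set_option autoImplicit false

namespace CfsgLib.Solvable.TwoLengthDerived

open Subgroup CfsgLib CfsgLib.Solvable.FPFOperators CfsgLib.Solvable.TwoLengthExp
open scoped commutatorElement

universe u v w

variable {Γ : Type u} [Group Γ] {K : Type v} [Field K] {U : Type w} [AddCommGroup U] [Module K U]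

/-- Vanishing chains pass to an invariant subspace. -/
theorem chainZero_sys {ρ : Γ →* Module.End K U} {X T : Subgroup Γ} (hTX : T ≤ X) {V : Submodule K U}
    {Γ' : Type*} [Group Γ'] {ρ' : Γ' →* Module.End K V} {f : X →* Γ'}
    (hρ' : ∀ (x : X) (v : V), ((ρ' (f x) v : V) : U) = ρ (x : Γ) v) {n : ℕ}
    (hch : ∀ g, IsChain ρ T n g → ∀ v ∈ V, g v = 0) :
    ChainZero ρ' ((T.subgroupOf X).map f) n := by
  intro g' hg'
  obtain ⟨g, hg, hP⟩ := IsChain.of_map (ρ := ρ.comp X.subtype) (ρ' := ρ') f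
    (fun (g : Module.End K U) (g' : Module.End K V) => ∀ v : V, ((g' v : V) : U) = g v)
    (fun v => rfl) (fun x g g' hgg v => by
      simp only [Module.End.mul_apply, LinearMap.sub_apply, Module.End.one_apply, Submodule.coe_sub,
        MonoidHom.comp_apply, Subgroup.coe_subtype, hρ', hgg]) n g' hg'
  have hlift : ∀ (m : ℕ) (g : Module.End K U), IsChain (ρ.comp X.subtype) (T.subgroupOf X) m g →
      IsChain ρ T m g := by
    intro m
    induction m with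
    | zero => exact fun g h => h
    | succ m ih =>
      rintro _ ⟨x, hx, g, hg, rfl⟩
      refine ⟨x, ?_, g, ih g hg, rfl⟩
      have h1 := mem_map_of_mem X.subtype hx
      rwa [map_dser, map_subgroupOf_eq_of_le hTX] at h1
  exact LinearMap.ext fun v => Subtype.ext (by rw [hP, hch g (hlift n g hg) v v.2]; rfl)

variable [Finite Γ] [CharP K 2]

namespace Sys

variable {ρ : Γ →* Module.End K U} {C : Subgroup Γ} [C.Normal] {q : ℕ} [Fact q.Prime]
  (h : Sys ρ C q)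

include h

variable [IsAlgClosed K] [FiniteDimensional K U]

/-- The deep derived subgroups act trivially. -/
theorem act_eq_one_of_dser {T : Subgroup Γ} (hT : IsPGroup 2 T) {k : ℕ}
    (hch : ChainZero ρ T (k + 3)) {a₀ : Γ} (ha₀ : a₀ ∈ dser T (k + 2)) : act C a₀ = 1 := by
  by_contra hne
  obtain ⟨a, ha, ha2, ha1, hca⟩ := h.exists_central hT (k := k + 1) hch ⟨a₀, ha₀, hne⟩
  have haT : a ∈ T := dser_le T _ ha
  set N := negPart (act C a) with hN
  have haz : act C a * act C a = 1 := by rw [← map_mul, ha2, map_one]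
  have hTN : ∀ x ∈ T, ∀ {v : Quo C}, v ∈ N → act C x v ∈ N := fun x hx v hv =>
    mem_negPart_of_commute ((hca x hx).map (act C)) hv
  let K0 : Subgroup Γ :=
    { carrier := {x | x ∈ T ∧ ∀ v ∈ N, act C x v = v}
      one_mem' := ⟨one_mem T, fun v _ => by rw [map_one]; rfl⟩
      mul_mem' := fun {x y} hx hy => ⟨mul_mem hx.1 hy.1, fun v hv => by
        rw [map_mul, MulAut.mul_apply, hy.2 v hv, hx.2 v hv]⟩
      inv_mem' := fun {x} hx => ⟨inv_mem hx.1, fun v hv => by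
        conv_lhs => rw [← hx.2 v hv]
        rw [← MulAut.mul_apply, ← map_mul, inv_mul_cancel, map_one]; rfl⟩ }
  have hK0 : ∀ {x}, x ∈ K0 ↔ x ∈ T ∧ ∀ v ∈ N, act C x v = v := Iff.rfl
  have hK0conj : ∀ x ∈ T, ∀ w ∈ K0, x * w * x⁻¹ ∈ K0 := fun x hx w hw =>
    ⟨mul_mem (mul_mem hx (hK0.1 hw).1) (inv_mem hx), fun v hv => by
      rw [map_mul, map_mul, MulAut.mul_apply, MulAut.mul_apply,
        (hK0.1 hw).2 _ (hTN x⁻¹ (inv_mem hx) hv), ← MulAut.mul_apply, ← map_mul, mul_inv_cancel,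
        map_one, MulAut.one_apply]⟩
  set C1 := (N.comap (cls C)).map C.subtype ⊓ centralizer (K0 : Set Γ) with hC1
  have hC1mem : ∀ {c : Γ}, c ∈ C1 ↔ ∃ hc : c ∈ C, cls C ⟨c, hc⟩ ∈ N ∧ ∀ w ∈ K0, Commute w c := by
    intro c
    rw [hC1, mem_inf, mem_centralizer_iff]
    constructor
    · rintro ⟨⟨⟨c', hc'⟩, hN', rfl⟩, hcen⟩
      exact ⟨hc', hN', hcen⟩
    · rintro ⟨hc, hN', hcen⟩
      exact ⟨⟨⟨c, hc⟩, hN', rfl⟩, hcen⟩
  have hC1C : C1 ≤ C := fun c hc => (hC1mem.1 hc).1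
  have hC1T : ∀ x ∈ T, ∀ c ∈ C1, x * c * x⁻¹ ∈ C1 := by
    intro x hx c hc
    obtain ⟨hcC, hcN, hcK⟩ := hC1mem.1 hc
    refine hC1mem.2 ⟨h.normal.conj_mem _ hcC x, ?_, fun w hw => ?_⟩
    · rw [show (⟨x * c * x⁻¹, _⟩ : C) = MulAut.conjNormal x (⟨c, hcC⟩ : C) from
        Subtype.ext (by rw [MulAut.conjNormal_apply]), ← act_cls]
      exact hTN x hx hcN
    · have h1 := hcK _ (hK0conj x⁻¹ (inv_mem hx) w hw)
      rw [inv_inv] at h1
      show w * (x * c * x⁻¹) = x * c * x⁻¹ * w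
      calc w * (x * c * x⁻¹) = x * (x⁻¹ * w * x * c) * x⁻¹ := by group
        _ = x * (c * (x⁻¹ * w * x)) * x⁻¹ := by rw [h1.eq]
        _ = x * c * x⁻¹ * w := by group
  have hTle : T ≤ normalizer (C1 : Set Γ) := fun x hx => mem_normalizer_iff.2 fun c =>
    ⟨hC1T x hx c, fun hc => by
      have h1 := hC1T x⁻¹ (inv_mem hx) _ hc
      rwa [show x⁻¹ * (x * c * x⁻¹) * x⁻¹⁻¹ = c by group] at h1⟩
  have hTK0 : T ≤ normalizer (K0 : Set Γ) := fun x hx => mem_normalizer_iff.2 fun c =>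
    ⟨hK0conj x hx c, fun hc => by
      have h1 := hK0conj x⁻¹ (inv_mem hx) _ hc
      rwa [show x⁻¹ * (x * c * x⁻¹) * x⁻¹⁻¹ = c by group] at h1⟩
  set X := T ⊔ C1 with hX
  have hXK0 : X ≤ normalizer (K0 : Set Γ) := sup_le hTK0 fun c hc => mem_normalizer_iff.2 fun w => by
    obtain ⟨-, -, hcK⟩ := hC1mem.1 hc
    constructor
    · intro hw
      rwa [← (hcK w hw).eq, mul_inv_cancel_right]
    · intro hw
      have e := (hcK _ hw).eq
      have e' : c * w * c⁻¹ = w := by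
        calc c * w * c⁻¹ = c⁻¹ * (c * w * c⁻¹ * c) := by rw [e]; group
          _ = w := by group
      rwa [e'] at hw
  let V : Submodule K U :=
    { carrier := {v | ∀ w ∈ K0, ρ w v = v}
      add_mem' := fun {v v'} hv hv' w hw => by rw [map_add, hv w hw, hv' w hw]
      zero_mem' := fun w _ => map_zero _
      smul_mem' := fun r v hv w hw => by rw [map_smul, hv w hw] }
  have hV : ∀ x ∈ X, ∀ v ∈ V, ρ x v ∈ V := fun x hx v hv w hw => by
    have h1 := hv _ ((mem_normalizer_iff.1 (inv_mem (hXK0 hx)) w).1 hw)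
    rw [inv_inv] at h1
    conv_rhs => rw [← h1]
    rw [← Module.End.mul_apply, ← map_mul, ← Module.End.mul_apply, ← map_mul]
    congr 2
    group
  obtain ⟨Γ', _, _, ρ', f, hf, hρ', hsys⟩ := exists_sys h.odd ρ (X := X) (C := C1) le_sup_right
    (sup_le hTle le_normalizer) (h.pgroup.to_le hC1C) V hV fun c hc d hd => by
      obtain ⟨ζ, hζ⟩ := h.scalar c (hC1C hc) d (hC1C hd)
      exact ⟨ζ, fun s _ => by rw [hζ]; rfl⟩
  set C' := (C1.subgroupOf X).map f with hC'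
  haveI : C'.Normal := hsys.normal
  have hTX : T ≤ X := le_sup_left
  obtain ⟨s, hs0, hs⟩ := exists_fixed_ne_zero ρ (by
    by_contra hcon
    push Not at hcon
    refine ha1 ?_
    rw [show a = 1 from h.inj (LinearMap.ext fun v => by rw [hcon (ρ a v), hcon (ρ 1 v)]), map_one])
    (hT.to_le (fun w hw => (hK0.1 hw).1) : IsPGroup 2 K0)
  have hcomm : ∀ c ∈ C, ∀ d ∈ C, ∀ hcd : ⁅c, d⁆ ∈ X, f ⟨⁅c, d⁆, hcd⟩ = 1 → ⁅c, d⁆ = 1 := by
    intro c hc d hd hcd e
    obtain ⟨ζ, hζ⟩ := h.scalar c hc d hd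
    have h1 := hρ' ⟨⁅c, d⁆, hcd⟩ ⟨s, hs⟩
    rw [e, map_one, Module.End.one_apply, hζ, LinearMap.smul_apply, Module.End.one_apply] at h1
    have hζ1 : ζ = 1 := smul_left_injective K hs0 (h1.symm.trans (one_smul K s).symm)
    exact h.inj (by rw [hζ, hζ1, one_smul, map_one])
  have hlift : ∀ v ∈ N, ∃ c : C, cls C c = v ∧ (c : Γ) ∈ C1 := by
    intro v hv
    obtain ⟨c, hc, hcK⟩ := h.exists_fixed_lift (P := K0) (hT.to_le fun w hw => (hK0.1 hw).1)
      fun w hw => (hK0.1 hw).2 v hv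
    exact ⟨c, hc, hC1mem.2 ⟨c.2, by rw [Subtype.coe_eta, hc]; exact hv, hcK⟩⟩
  -- the kernel of the action on the new quotient
  have hkerK0 : ∀ (w : Γ) (hw : w ∈ T), act C' (f ⟨w, hTX hw⟩) = 1 → w ∈ K0 := by
    intro w hw e
    refine hK0.2 ⟨hw, fun v hv => mul_inv_eq_one.1 (h.form_nondeg _ fun y => ?_)⟩
    have hu : act C w v * v⁻¹ ∈ N := mul_mem (hTN w hw hv) (inv_mem hv)
    obtain ⟨r, hr, hn, hp⟩ := exists_decomp (z := act C a) h.quo_odd haz y
    have hsplit : y = r * (act C a r)⁻¹ * (r * act C a r) := by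
      rw [mul_mul_mul_comm, inv_mul_cancel, mul_one, hr]
    rw [hsplit, h.form_mul_right, h.form_skew (r * act C a r), h.form_orth' hp (mem_negPart.1 hu),
      inv_one, mul_one]
    obtain ⟨c, hcv, hc1⟩ := hlift v hv
    obtain ⟨d, hd, hd1⟩ := hlift _ hn
    rw [← hcv, ← hd, act_cls, ← map_inv, ← map_mul]
    refine Subtype.ext ?_
    rw [h.coe_form, Subgroup.coe_one]
    let c' : X := ⟨c, (le_sup_right : C1 ≤ X) hc1⟩
    let w' : X := ⟨w, hTX hw⟩
    let d' : X := ⟨d, (le_sup_right : C1 ≤ X) hd1⟩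
    let c₂ : C' := ⟨f c', mem_map_of_mem f (show (c : Γ) ∈ C1 from hc1)⟩
    have e1 : cls C' (MulAut.conjNormal (f w') c₂ * c₂⁻¹) = 1 := by
      rw [map_mul, ← act_cls, map_inv, e, MulAut.one_apply, mul_inv_cancel]
    have e2 := hsys.cls_eq_one.1 e1 (f d') (mem_map_of_mem f (show (d : Γ) ∈ C1 from hd1))
    have e3 : f ⁅w' * c' * w'⁻¹ * c'⁻¹, d'⁆ = 1 := by
      rw [map_commutatorElement, commutatorElement_eq_one_iff_mul_comm]
      rw [Subgroup.coe_mul, MulAut.conjNormal_apply, InvMemClass.coe_inv] at e2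
      simpa [c₂] using e2
    rw [Subgroup.coe_mul, MulAut.conjNormal_apply, InvMemClass.coe_inv]
    exact hcomm _ (mul_mem (h.normal.conj_mem _ c.2 w) (inv_mem c.2)) _ d.2
      (⁅w' * c' * w'⁻¹ * c'⁻¹, d'⁆ : X).2 e3
  have hfK0 : ∀ (w : Γ) (hw : w ∈ T), w ∈ K0 → f ⟨w, hTX hw⟩ = 1 := fun w hw hwK =>
    hsys.inj (LinearMap.ext fun v => Subtype.ext (by
      rw [hρ', map_one]
      exact v.2 w hwK))
  set a' := f ⟨a, hTX haT⟩ with ha'
  have hinv : ∀ v, act C' a' v = v⁻¹ := by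
    intro v
    obtain ⟨⟨_, x, hx, rfl⟩, rfl⟩ := cls_surjective C' v
    obtain ⟨hxC, hxN, -⟩ : ∃ hc : ((x : Γ)) ∈ C, cls C ⟨(x : Γ), hc⟩ ∈ N ∧ ∀ w ∈ K0, Commute w (x : Γ) :=
      hC1mem.1 hx
    rw [act_cls, eq_inv_iff_mul_eq_one, ← map_mul, hsys.cls_eq_one]
    rintro _ ⟨d, hd, rfl⟩
    have h1 : cls C (MulAut.conjNormal a (⟨x, hxC⟩ : C) * ⟨x, hxC⟩) = 1 := by
      rw [map_mul, ← act_cls, mem_negPart.1 hxN, inv_mul_cancel]
    have h2 := h.cls_eq_one.1 h1 d (hC1C hd)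
    rw [Subgroup.coe_mul, MulAut.conjNormal_apply] at h2
    rw [Subgroup.coe_mul, MulAut.conjNormal_apply]
    show f ⟨a, hTX haT⟩ * f x * (f ⟨a, hTX haT⟩)⁻¹ * f x * f d =
      f d * (f ⟨a, hTX haT⟩ * f x * (f ⟨a, hTX haT⟩)⁻¹ * f x)
    simp only [← map_inv, ← map_mul]
    exact congrArg f (Subtype.ext h2)
  have ha'1 : act C' a' ≠ 1 := fun e => by
    obtain ⟨v, hv, hv1⟩ := (bot_or_exists_ne_one N).resolve_left fun h0 =>
      ha1 (eq_one_of_negPart_eq_bot h.quo_odd haz h0)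
    exact hv1 (eq_one_of_neg_pos h.quo_odd hv ((hK0.1 (hkerK0 a haT e)).2 v hv))
  refine hsys.false_of_deep (T := (T.subgroupOf X).map f)
    ((hT.of_equiv (subgroupOfEquivOfLe hTX).symm).map f) (chainZero_sys hTX hρ' fun g hg v _ => by rw [hch g hg]; rfl) ?_ (a := a') ?_ ?_ ha'1
    ?_ hinv
  · rintro _ ⟨w, hw, rfl⟩ e
    exact hfK0 w hw (hkerK0 w hw e)
  · rw [← map_dser]
    refine mem_map_of_mem f ?_
    rw [← mem_map_iff_mem X.subtype_injective, map_dser, map_subgroupOf_eq_of_le hTX]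
    exact ha
  · rw [ha', ← map_mul, show (⟨a, hTX haT⟩ : X) * ⟨a, hTX haT⟩ = 1 from Subtype.ext ha2, map_one]
  · rintro _ ⟨w, hw, rfl⟩
    exact (show Commute w (⟨a, hTX haT⟩ : X) from Subtype.ext (hca w hw).eq).map f

end Sys

end CfsgLib.Solvable.TwoLengthDerived
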