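import Cfsg.Agent.Lib.Solvable.TwoLengthDerived.Sys
import Cfsg.Agent.Lib.Solvable.TwoLength.Main

/-!
# Roots of involutions in a block, and restriction of blocks
-/

set_option autoImplicit false

namespace CfsgLib.Solvable.TwoLengthDerived

open Subgroup CfsgLib CfsgLib.Solvable.FPFOperators CfsgLib.Solvable.TwoLengthExp
open scoped commutatorElement

universe u v w

variable {Γ : Type u} [Group Γ] [Finite Γ] {K : Type v} [Field K] [CharP K 2]
  {U : Type w} [AddCommGroup U] [Module K U]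

/-- A representation on an invariant subspace, made faithful. -/
theorem exists_sys {q : ℕ} [Fact q.Prime] (hq : q ≠ 2) (ρ : Γ →* Module.End K U) {X C : Subgroup Γ}
    (hCX : C ≤ X) (hX : X ≤ normalizer (C : Set Γ)) (hC : IsPGroup q C) (V : Submodule K U)
    (hV : ∀ x ∈ X, ∀ v ∈ V, ρ x v ∈ V)
    (hscal : ∀ x ∈ C, ∀ y ∈ C, ∃ ζ : K, ∀ v ∈ V, ρ ⁅x, y⁆ v = ζ • v) :
    ∃ (Γ' : Type u) (_ : Group Γ') (_ : Finite Γ') (ρ' : Γ' →* Module.End K V) (f : X →* Γ'),
      Function.Surjective f ∧ (∀ (x : X) (v : V), ((ρ' (f x) v : V) : U) = ρ (x : Γ) v) ∧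
      Sys ρ' ((C.subgroupOf X).map f) q := by
  let θ : X →* Module.End K V :=
    { toFun := fun x => (ρ (x : Γ)).restrict (hV x x.2)
      map_one' := LinearMap.ext fun v => Subtype.ext (by
        rw [LinearMap.restrict_coe_apply, Subgroup.coe_one, map_one]; rfl)
      map_mul' := fun x y => LinearMap.ext fun v => Subtype.ext (by
        rw [LinearMap.restrict_coe_apply, Subgroup.coe_mul, map_mul]; rfl) }
  obtain ⟨ρ', hinj, hρ'⟩ := TwoLength.exists_injective_lift θ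
  refine ⟨X ⧸ θ.ker, inferInstance, inferInstance, ρ', QuotientGroup.mk' θ.ker,
    QuotientGroup.mk'_surjective _, fun x v => by rw [hρ']; rfl, ⟨hinj, ?_, ?_, hq, ?_⟩⟩
  · haveI : (C.subgroupOf X).Normal := (normal_subgroupOf_iff_le_normalizer hCX).2 hX
    exact Normal.map inferInstance _ (QuotientGroup.mk'_surjective _)
  · exact (hC.of_equiv (subgroupOfEquivOfLe hCX).symm).map _
  · rintro _ ⟨x, hx, rfl⟩ _ ⟨y, hy, rfl⟩
    obtain ⟨ζ, hζ⟩ := hscal _ hx _ hy
    refine ⟨ζ, LinearMap.ext fun v => Subtype.ext ?_⟩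
    rw [← map_commutatorElement, hρ']
    show ρ (X.subtype ⁅x, y⁆) v = ζ • (v : U)
    rw [map_commutatorElement]
    exact hζ v v.2

namespace Sys

variable {ρ : Γ →* Module.End K U} {C : Subgroup Γ} [C.Normal] {q : ℕ} [Fact q.Prime]
  (h : Sys ρ C q)

omit [Finite Γ] [CharP K 2] [C.Normal] [Fact q.Prime] in
theorem pow_mul_sub_one {x a : Γ} (hxa : (ρ x - 1) * (ρ a - 1) = 0) :
    ∀ i : ℕ, (ρ (x ^ i) - 1) * (ρ a - 1) = 0
  | 0 => by rw [pow_zero, map_one, sub_self, zero_mul]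
  | i + 1 => by
    have e : ρ (x ^ (i + 1)) - 1 = ρ (x ^ i) * (ρ x - 1) + (ρ (x ^ i) - 1) := by
      rw [pow_succ, map_mul]; noncomm_ring
    rw [e, add_mul, mul_assoc, hxa, mul_zero, zero_add, pow_mul_sub_one hxa i]

include h

omit [C.Normal] [Fact q.Prime] in
/-- An involution has square-zero displacement. -/
theorem sub_one_mul_self {a : Γ} (ha : a * a = 1) : (ρ a - 1) * (ρ a - 1) = 0 := by
  have e : (ρ a - 1) * (ρ a - 1) = ρ (a * a) - 1 - ((ρ a - 1) + (ρ a - 1)) := by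
    rw [map_mul]; noncomm_ring
  rw [e, ha, map_one, sub_self, zero_sub, neg_eq_zero, ← two_smul K (ρ a - 1), CharTwo.two_eq_zero,
    zero_smul]

omit [C.Normal] [Fact q.Prime] in
theorem mul_mul_sub_one {x a : Γ} (ha2 : a * a = 1) (hxa : (ρ x - 1) * (ρ a - 1) = 0) :
    (ρ (x * a) - 1) * (ρ a - 1) = 0 := by
  have e : ρ (x * a) - 1 = ρ x * (ρ a - 1) + (ρ x - 1) := by rw [map_mul]; noncomm_ring
  rw [e, add_mul, mul_assoc, h.sub_one_mul_self ha2, mul_zero, zero_add, hxa]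

variable [IsAlgClosed K] [FiniteDimensional K U]

/-- The roots of an involution. -/
theorem root_cases {a x : Γ} (ha2 : a * a = 1) (ha : act C a ≠ 1) (hx2 : IsPGroup 2 (zpowers x))
    (hc : Commute x a) (hxa : (ρ x - 1) * (ρ a - 1) = 0) :
    x = 1 ∨ x = a ∨ (x * x = a ∧ q = 3 ∧ Nat.card (negPart (act C a)) = 9) := by
  classical
  haveI : Fact (Nat.Prime 2) := ⟨Nat.prime_two⟩
  have hq : q.Prime := Fact.out
  have haa : act C a * act C a = 1 := by rw [← map_mul, ha2, map_one]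
  obtain ⟨v₀, hv₀, hv₀1⟩ := (bot_or_exists_ne_one (negPart (act C a))).resolve_left
    fun h0 => ha (eq_one_of_negPart_eq_bot h.quo_odd haa h0)
  obtain ⟨k, hk⟩ := hx2 ⟨x, mem_zpowers x⟩
  have hk' : x ^ 2 ^ k = 1 := congrArg Subtype.val hk
  obtain ⟨i, -, hi⟩ := (Nat.dvd_prime_pow Nat.prime_two).1 (orderOf_dvd_of_pow_eq_one hk')
  rcases i with _ | n
  · exact .inl (orderOf_eq_one_iff.1 (by rw [hi, pow_zero]))
  right
  set z := x ^ 2 ^ n with hz
  have hz2 : z * z = 1 := by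
    rw [hz, ← pow_add, ← two_mul, ← pow_succ', ← hi, pow_orderOf_eq_one]
  have hz1 : z ≠ 1 := fun h0 => by
    have := orderOf_le_of_pow_eq_one (Nat.two_pow_pos n) h0
    rw [hi, pow_succ] at this
    have := Nat.two_pow_pos n
    omega
  have hza : (ρ z - 1) * (ρ a - 1) = 0 := pow_mul_sub_one hxa _
  have hzc : Commute z a := hc.pow_left _
  have hzp : IsPGroup 2 (zpowers z) :=
    hx2.to_le (zpowers_le.2 (pow_mem (mem_zpowers x) _))
  have hzN : ∀ v ∈ negPart (act C a), act C z v = v⁻¹ := by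
    intro v hv
    have hzv : act C z v ∈ negPart (act C a) := mem_negPart_of_commute (hzc.map (act C)) hv
    by_contra hne
    refine hz1 (h.eq_one_of_fixed hzp hza (v := v * act C z v) (fun h0 => hne ?_)
      (mem_negPart.1 (mul_mem hv hzv)) ?_)
    · exact eq_inv_of_mul_eq_one_right h0
    · rw [map_mul, ← MulAut.mul_apply, ← map_mul, hz2, map_one, MulAut.one_apply, mul_comm]
  have hzea : z = a := by
    have hzac : Commute (z * a) a := hzc.mul_left (Commute.refl a)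
    have hza2 : (z * a) * (z * a) = 1 := by
      rw [hzc.symm.mul_mul_mul_comm, hz2, ha2, mul_one]
    have hzap : IsPGroup 2 (zpowers (z * a)) := TwoLength.isPGroup_two_zpowers hza2
    have h1 := h.eq_one_of_fixed hzap (h.mul_mul_sub_one ha2 hza) hv₀1 (mem_negPart.1 hv₀) (by
      rw [map_mul, MulAut.mul_apply, mem_negPart.1 hv₀, map_inv, hzN v₀ hv₀, inv_inv])
    rw [mul_eq_one_iff_eq_inv] at h1
    rw [h1]
    exact inv_eq_of_mul_eq_one_left ha2
  rcases Nat.eq_zero_or_pos n with hn | hn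
  · left
    rw [← hzea, hz, hn, pow_zero, pow_one]
  right
  -- an exceptional operator
  have hUne : Nontrivial U := by
    by_contra hU
    rw [not_nontrivial_iff_subsingleton] at hU
    exact hz1 (h.inj (LinearMap.ext fun v => Subsingleton.elim _ _))
  haveI : CharP (Module.End K U) 2 := charP_of_injective_algebraMap
    (FaithfulSMul.algebraMap_injective K (Module.End K U)) 2
  have hsmul : Function.Injective fun c : K => c • (1 : Module.End K U) :=
    smul_left_injective K one_ne_zero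
  let Z : Subgroup Γ :=
    { carrier := {c | c ∈ C ∧ ∃ ζ : K, ρ c = ζ • 1}
      one_mem' := ⟨one_mem C, 1, by rw [map_one, one_smul]⟩
      mul_mem' := fun {c d} ⟨hcC, ζ, hζ⟩ ⟨hdC, η, hη⟩ => ⟨mul_mem hcC hdC, ζ * η, by
        rw [map_mul, hζ, hη, smul_one_mul, smul_smul]⟩
      inv_mem' := fun {c} ⟨hcC, ζ, hζ⟩ => ⟨inv_mem hcC, ζ⁻¹, by
        have h1 : ζ • ρ c⁻¹ = 1 := by
          rw [← smul_one_mul ζ, ← hζ, ← map_mul, mul_inv_cancel, map_one]
        have hζ0 : ζ ≠ 0 := fun h0 => by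
          rw [h0, zero_smul] at h1; exact zero_ne_one h1
        rw [← h1, smul_smul, inv_mul_cancel₀ hζ0, one_smul]⟩ }
  have hZmem : ∀ {c : Γ}, c ∈ Z ↔ c ∈ C ∧ ∃ ζ : K, ρ c = ζ • 1 := Iff.rfl
  have hZcen : ∀ c ∈ Z, ∀ g : Γ, c * g = g * c := fun c hc g => h.commute_scalar hc.2.choose_spec g
  haveI : Z.Normal := ⟨fun c hc g => by rw [← hZcen c hc g, mul_inv_cancel_right]; exact hc⟩
  haveI : Fintype Z := Fintype.ofFinite Z
  have hχ : ∀ c : Z, ρ (c : Γ) = c.2.2.choose • 1 := fun c => c.2.2.choose_spec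
  let χ : Z →* K :=
    { toFun := fun c => c.2.2.choose
      map_one' := hsmul (by
        show ((1 : Z).2.2.choose • (1 : Module.End K U)) = (1 : K) • 1
        rw [← hχ, Subgroup.coe_one, map_one, one_smul])
      map_mul' := fun c d => hsmul (by
        show ((c * d).2.2.choose • (1 : Module.End K U)) = (c.2.2.choose * d.2.2.choose) • 1
        rw [← hχ, Subgroup.coe_mul, map_mul]
        exact (congrArg₂ (· * ·) (hχ c) (hχ d)).trans (by rw [smul_one_mul, smul_smul])) }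
  set l := χ.toHomUnits with hl
  have hZC : Z ≤ C := fun c hc => hc.1
  have hqK : (q : K) ≠ 0 := fun h0 => h.odd
    ((Nat.prime_dvd_prime_iff_eq Nat.prime_two hq).1 ((CharP.cast_eq_zero_iff K 2 _).1 h0)).symm
  have hZK : (Fintype.card Z : K) ≠ 0 := by
    rw [← Nat.card_eq_fintype_card]; exact natCard_cast_ne_zero (h.pgroup.to_le hZC) hqK
  have he : weightIdem Z ρ l = 1 := by
    have h1 : ∀ c : Z, (l c⁻¹ : K) • ρ (c : Γ) = 1 := fun c => by
      rw [hχ c, smul_smul]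
      show (χ c⁻¹ * χ c) • (1 : Module.End K U) = 1
      rw [← map_mul, inv_mul_cancel, map_one, one_smul]
    rw [weightIdem, Finset.sum_congr rfl (fun c _ => h1 c), Finset.sum_const, Finset.card_univ,
      ← Nat.cast_smul_eq_nsmul K, smul_smul, inv_mul_cancel₀ hZK, one_smul]
  set mk := QuotientGroup.mk' Z with hmk
  have hmk1 : ∀ c, mk c = 1 ↔ c ∈ Z := fun c => QuotientGroup.eq_one_iff c
  have hcommZ : ∀ c ∈ C, ∀ d ∈ C, ⁅c, d⁆ ∈ Z := fun c hc d hd =>
    ⟨commutator_le.2 (fun a ha b hb => by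
      rw [commutatorElement_def]
      exact mul_mem (mul_mem (mul_mem ha hb) (inv_mem ha)) (inv_mem hb))
      (commutator_mem_commutator hc hd), h.scalar c hc d hd⟩
  have hCcomm : ∀ c ∈ C, ∀ d ∈ C, mk c * mk d = mk d * mk c := fun c hc d hd => by
    rw [← commutatorElement_eq_one_iff_mul_comm, ← map_commutatorElement, hmk1]
    exact hcommZ c hc d hd
  let D : C →* Γ ⧸ Z := MonoidHom.mk' (fun o => mk ⁅a, (o : Γ)⁆) fun o o' => by
    show mk ⁅a, (o : Γ) * o'⁆ = mk ⁅a, (o : Γ)⁆ * mk ⁅a, (o' : Γ)⁆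
    rw [show ⁅a, (o : Γ) * o'⁆ = ⁅a, (o : Γ)⁆ * ((o : Γ) * ⁅a, (o' : Γ)⁆ * (o : Γ)⁻¹) by
      simp only [commutatorElement_def]; group, map_mul, map_mul, map_mul,
      hCcomm o o.2 _ (commutator_mem_of_normal h.normal _ o'.2), map_inv, mul_inv_cancel_right]
  set Qa := D.range.comap mk with hQa
  have hQamem : ∀ {c : Γ}, c ∈ Qa ↔ ∃ o ∈ C, mk c = mk ⁅a, o⁆ := fun {c} =>
    ⟨fun ⟨o, ho⟩ => ⟨o, o.2, ho.symm⟩, fun ⟨o, ho, e⟩ => ⟨⟨o, ho⟩, e.symm⟩⟩
  have hQC : Qa ≤ C := by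
    intro c hc
    obtain ⟨o, ho, e⟩ := hQamem.1 hc
    have h1 : c⁻¹ * ⁅a, o⁆ ∈ Z := QuotientGroup.eq.1 e
    have h2 : c⁻¹ ∈ C := by
      have := C.mul_mem (hZC h1) (C.inv_mem (commutator_mem_of_normal h.normal a ho))
      rwa [mul_inv_cancel_right] at this
    exact (C.inv_mem_iff).1 h2
  have hZQa : Z ≤ Qa := fun c hc => hQamem.2 ⟨1, one_mem C, by
    rw [commutatorElement_one_right, map_one, (hmk1 c).2 hc]⟩
  have hmemQa : ∀ o ∈ C, ⁅a, o⁆ ∈ Qa := fun o ho => hQamem.2 ⟨o, ho, rfl⟩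
  have hxQa : x ∈ normalizer (Qa : Set Γ) := by
    refine le_normalizer_iff.2 (fun g hg c hc' => ?_) (mem_zpowers x)
    have hga : g * a = a * g := by
      obtain ⟨j, rfl⟩ := mem_zpowers_iff.1 hg
      exact (hc.zpow_left j).eq
    obtain ⟨o, ho, e⟩ := hQamem.1 hc'
    refine hQamem.2 ⟨g * o * g⁻¹, h.normal.conj_mem o ho g, ?_⟩
    rw [map_mul, map_mul, e, ← map_mul, ← map_mul]
    congr 1
    rw [show g * ⁅a, o⁆ * g⁻¹ = ⁅g * a * g⁻¹, g * o * g⁻¹⁆ by
      simp only [commutatorElement_def]; group, hga, mul_inv_cancel_right]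
  have hQp : IsPGroup q Qa := h.pgroup.to_le hQC
  have hcop : ∀ {o : Γ}, o ∈ C → (orderOf o).Coprime 2 := fun {o} ho => by
    obtain ⟨b, hb⟩ := h.pgroup ⟨o, ho⟩
    exact (((Nat.coprime_primes hq Nat.prime_two).2 h.odd).pow_left b).coprime_dvd_left
      (orderOf_dvd_of_pow_eq_one (congrArg Subtype.val hb))
  have hfix : ∀ o ∈ Qa, (x ^ 2 ^ n * o = o * x ^ 2 ^ n ↔ o ∈ Z) := by
    rw [← hz, hzea]
    refine fun o ho => ⟨fun hco => ?_, fun hoZ => (hZcen o hoZ a).symm⟩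
    obtain ⟨w, hw, e⟩ := hQamem.1 ho
    rw [← hmk1, e, map_commutatorElement]
    refine eq_one_of_commute_commutator (p := 2) (by rw [← map_pow, pow_two, ha2, map_one]) ?_ ?_
    · rw [← map_commutatorElement, ← e, ← map_mul, ← map_mul, hco]
    · rw [← map_commutatorElement, ← e]
      exact (hcop (hQC ho)).coprime_dvd_left (orderOf_map_dvd _ _)
  obtain ⟨o, rfl⟩ := cls_surjective C v₀
  have hne : ∃ y ∈ Qa, ρ (x ^ 2 ^ n * y) * weightIdem Z ρ l ≠ ρ (y * x ^ 2 ^ n) * weightIdem Z ρ l := by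
    refine ⟨_, hmemQa o o.2, fun he' => hv₀1 ?_⟩
    rw [he, mul_one, mul_one, ← hz, hzea] at he'
    have h1 := eq_one_of_commute_commutator (t := a) (g := (o : Γ)) (p := 2) (by rw [pow_two, ha2])
      (h.inj he') (hcop (commutator_mem_of_normal h.normal a o.2))
    have h2 : MulAut.conjNormal a o = o := Subtype.ext (by
      rw [MulAut.conjNormal_apply, mul_inv_eq_iff_eq_mul]
      exact commutatorElement_eq_one_iff_mul_comm.1 h1)
    exact eq_one_of_neg_pos h.quo_odd hv₀ (by rw [act_cls, h2])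
  have hr : (ρ x - 1) ^ (2 ^ n + 1) = 0 := by
    rw [pow_succ', sub_pow_char_pow_of_commute 2 n (Commute.one_right _), one_pow, ← map_pow, ← hz,
      hzea, hxa]
  have hrlt : 2 ^ n + 1 < 2 ^ (n + 1) := by
    have : 2 ≤ 2 ^ n := by
      calc (2 : ℕ) = 2 ^ 1 := rfl
        _ ≤ 2 ^ n := Nat.pow_le_pow_right two_pos hn
    rw [pow_succ]; omega
  obtain ⟨α, d, hαn, -, hdN, hdle, -, R', hR'mem, hd, hQR', -⟩ :=
    theoremB_block_at (n := n) (r := 2 ^ n + 1) h.odd ρ Qa Z hQp hZQa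
      (fun c hc y _ => (hZcen c hc y).symm) (fun c hc y hy => hcommZ c (hQC hc) y (hQC hy))
      (by rw [← hi]; exact pow_orderOf_eq_one x) hxQa hfix l hne hr hrlt
  obtain ⟨b, hb⟩ := IsPGroup.iff_card.mp hQp
  obtain ⟨m, -, hm⟩ : ∃ m ≤ b, d = q ^ m := (Nat.dvd_prime_pow hq).1 (by
    rw [← hb]
    exact (Dvd.intro d hd.symm).trans (Subgroup.relIndex_dvd_card _ _))
  have hm1 : 1 ≤ m := Nat.pos_of_ne_zero fun h0 => hQR' (Subgroup.relIndex_eq_one.1 (by
    rw [hd, hm, h0, pow_zero, one_mul]))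
  have hq3 : 3 ≤ q := by have := hq.two_le; have := h.odd; omega
  have hd3 : 3 ≤ d := hm ▸ hq3.trans (Nat.le_self_pow (by omega) q)
  -- the exponent is two
  obtain ⟨hn1, hd4⟩ : n = 1 ∧ d = 3 := by
    have hαlt : α < n := by
      rcases Nat.lt_or_ge α n with h0 | h0
      · exact h0
      · rw [show n - α + 1 = 1 by omega, pow_one] at hdN; omega
    have e1 : 2 ^ α * 2 ^ (n - α + 1) = 2 ^ (n + 1) := by rw [← pow_add]; congr 1; omega
    have e2 : 2 ^ (α + 1) ≤ 2 ^ n := Nat.pow_le_pow_right two_pos hαlt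
    have e3 : 2 ^ α * d + 2 ^ α = 2 ^ (n + 1) := by rw [← e1, ← hdN]; ring
    rw [pow_succ] at e2
    rw [pow_succ] at e3
    have hα0 : α = 0 := by
      by_contra h0
      have : 2 ^ 1 ≤ 2 ^ α := Nat.pow_le_pow_right two_pos (Nat.pos_of_ne_zero h0)
      omega
    rw [hα0, pow_zero, one_mul] at e3 hdle
    have : 2 ^ n ≤ 2 ^ 1 := by omega
    have hn1 : n = 1 := le_antisymm ((Nat.pow_le_pow_iff_right (le_refl 2)).1 this) hn
    rw [hn1] at e3
    exact ⟨hn1, by omega⟩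
  have hq_eq : q = 3 := by
    rw [hd4] at hm
    exact ((Nat.prime_dvd_prime_iff_eq hq Nat.prime_three).1 (hm ▸ dvd_pow_self q (by omega : m ≠ 0)))
  refine ⟨?_, hq_eq, ?_⟩
  · rw [← hzea, hz, hn1, pow_one, pow_two]
  have hN : negPart (act C a) = (Qa.subgroupOf C).map (cls C) := by
    refine le_antisymm (fun v hv => ?_) ?_
    · obtain ⟨y, hy⟩ := exists_sqrt h.quo_odd v
      have hzy : act C a y = y⁻¹ :=
        sqrt_unique h.quo_odd (by rw [← map_mul, hy, mem_negPart.1 hv, ← mul_inv, hy])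
      obtain ⟨w, rfl⟩ := cls_surjective C y
      refine inv_mem_iff.1 ⟨⟨⁅a, (w : Γ)⁆, commutator_mem_of_normal h.normal _ w.2⟩, hmemQa w w.2, ?_⟩
      rw [← hy, mul_inv, ← map_inv]
      conv_rhs => rw [map_inv]; arg 1; rw [← hzy, act_cls]
      rw [← map_inv, ← map_mul]
      refine congrArg (cls C) (Subtype.ext ?_)
      rw [Subgroup.coe_mul, InvMemClass.coe_inv, MulAut.conjNormal_apply]
      rfl
    · rintro _ ⟨⟨c, hcC⟩, hcQ, rfl⟩
      obtain ⟨w, hw, e⟩ := hQamem.1 hcQ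
      have h2 : cls C ⟨c, hcC⟩ = cls C ⟨⁅a, w⁆, commutator_mem_of_normal h.normal _ hw⟩ := by
        have h1 : c⁻¹ * ⁅a, w⁆ ∈ Z := QuotientGroup.eq.1 e
        rw [← inv_mul_eq_one, ← map_inv, ← map_mul, h.cls_eq_one]
        exact fun y _ => hZcen _ h1 y
      have h3 : cls C ⟨⁅a, w⁆, commutator_mem_of_normal h.normal _ hw⟩ =
          act C a (cls C ⟨w, hw⟩) * (cls C ⟨w, hw⟩)⁻¹ := by
        rw [act_cls, ← map_inv, ← map_mul]
        refine congrArg (cls C) (Subtype.ext ?_)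
        rw [Subgroup.coe_mul, InvMemClass.coe_inv, MulAut.conjNormal_apply]
        rfl
      rw [h2, h3, mem_negPart, map_mul, map_inv, ← MulAut.mul_apply, haa, MulAut.one_apply, mul_inv,
        inv_inv, mul_comm]
  have hker : quoKer C ⊓ Qa.subgroupOf C = R'.subgroupOf C := by
    ext ⟨c, hcC⟩
    rw [mem_inf, mem_subgroupOf, mem_subgroupOf, hR'mem]
    rw [show (⟨c, hcC⟩ : C) ∈ quoKer C ↔ cls C ⟨c, hcC⟩ = 1 from (QuotientGroup.eq_one_iff _).symm]
    refine ⟨fun hcc => ⟨hcc.2, fun y hy => by rw [h.cls_eq_one.1 hcc.1 y (hQC hy)]⟩,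
      fun hcc => ⟨?_, hcc.1⟩⟩
    have hcN : cls C ⟨c, hcC⟩ ∈ negPart (act C a) := by rw [hN]; exact ⟨⟨c, hcC⟩, hcc.1, rfl⟩
    refine h.form_nondeg _ fun w => ?_
    obtain ⟨s, hs, hn', hp⟩ := exists_decomp (z := act C a) h.quo_odd haa w
    have hsplit : w = s * (act C a s)⁻¹ * (s * act C a s) := by
      rw [mul_mul_mul_comm, inv_mul_cancel, mul_one, hs]
    rw [hsplit, h.form_mul_right, h.form_skew (s * act C a s),
      h.form_orth' hp (mem_negPart.1 hcN), inv_one, mul_one]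
    rw [hN] at hn'
    obtain ⟨y, hy, hye⟩ := hn'
    rw [← hye]
    refine Subtype.ext ?_
    rw [h.coe_form, Subgroup.coe_one, commutatorElement_eq_one_iff_mul_comm]
    have h5 := hcc.2 y hy
    rw [he, mul_one, mul_one] at h5
    exact h.inj h5
  rw [hN, ← Subgroup.relIndex_ker, cls, QuotientGroup.ker_mk', ← inf_relIndex_right, hker,
    Subgroup.relIndex_subgroupOf hQC, hd, hd4]

end Sys

end CfsgLib.Solvable.TwoLengthDerived
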