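import Cfsg.Agent.Lib.Solvable.TwoLengthExp.Blocks
import Cfsg.Agent.Lib.Solvable.TwoLengthDerived.Chain

/-!
# Blocks as faithful systems

A faithful representation in characteristic two with a normal `q`-subgroup `C` whose commutators act
as scalars: the setting of one block. The two-elements `x` commuting with an involution `a` and with
`(ρ x - 1) (ρ a - 1) = 0` are trivial, equal to `a`, or roots of `a` moving a plane of order nine.
-/

set_option autoImplicit false

namespace CfsgLib.Solvable.TwoLengthDerived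

open Subgroup CfsgLib CfsgLib.Solvable.FPFOperators CfsgLib.Solvable.TwoLengthExp
open scoped commutatorElement

universe u v w

variable {Γ : Type u} [Group Γ]

/-- The centre together with the derived group. -/
def quoKer (C : Subgroup Γ) : Subgroup C := center C ⊔ commutator C

instance quoKer_characteristic (C : Subgroup Γ) : (quoKer C).Characteristic := by
  rw [characteristic_iff_map_eq]
  intro φ
  rw [quoKer, Subgroup.map_sup, characteristic_iff_map_eq.1 (inferInstance : (center C).Characteristic) φ,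
    characteristic_iff_map_eq.1 (inferInstance : (commutator C).Characteristic) φ]

/-- The abelian section `C / Z(C)` of a group of class two. -/
abbrev Quo (C : Subgroup Γ) := C ⧸ quoKer C

instance quoCommGroup (C : Subgroup Γ) : CommGroup (Quo C) :=
  { (inferInstance : Group (Quo C)) with
    mul_comm := fun x y => by
      obtain ⟨x, rfl⟩ := QuotientGroup.mk'_surjective _ x
      obtain ⟨y, rfl⟩ := QuotientGroup.mk'_surjective _ y
      rw [← commutatorElement_eq_one_iff_mul_comm, ← map_commutatorElement]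
      exact (QuotientGroup.eq_one_iff _).2
        (mem_sup_right (commutator_mem_commutator (mem_top x) (mem_top y))) }

/-- The centre is abelian. -/
instance centreCommGroup : CommGroup (center Γ) :=
  { (inferInstance : Group (center Γ)) with
    mul_comm := fun a b => Subtype.ext (mem_center_iff.1 b.2 a) }

/-- The projection. -/
def cls (C : Subgroup Γ) : C →* Quo C := QuotientGroup.mk' (quoKer C)

theorem cls_surjective (C : Subgroup Γ) : Function.Surjective (cls C) :=
  QuotientGroup.mk'_surjective _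

/-- The action by conjugation. -/
noncomputable def act (C : Subgroup Γ) [C.Normal] : Γ →* MulAut (Quo C) := MonoidHom.mk'
  (fun g => QuotientGroup.congr _ _ (MulAut.conjNormal g)
    (characteristic_iff_map_eq.1 inferInstance _))
  fun g g' => MulEquiv.ext fun v => by
    obtain ⟨x, rfl⟩ := cls_surjective C v
    show cls C (MulAut.conjNormal (g * g') x) = cls C (MulAut.conjNormal g (MulAut.conjNormal g' x))
    rw [map_mul, MulAut.mul_apply]

theorem act_cls (C : Subgroup Γ) [C.Normal] (g : Γ) (x : C) :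
    act C g (cls C x) = cls C (MulAut.conjNormal g x) := rfl

variable {K : Type v} [Field K] {U : Type w} [AddCommGroup U] [Module K U]

/-- One block. -/
structure Sys (ρ : Γ →* Module.End K U) (C : Subgroup Γ) (q : ℕ) : Prop where
  inj : Function.Injective ρ
  normal : C.Normal
  pgroup : IsPGroup q C
  odd : q ≠ 2
  scalar : ∀ x ∈ C, ∀ y ∈ C, ∃ ζ : K, ρ ⁅x, y⁆ = ζ • 1

namespace Sys

variable {ρ : Γ →* Module.End K U} {C : Subgroup Γ} {q : ℕ} (h : Sys ρ C q)

include h

theorem commute_scalar {z : Γ} {ζ : K} (hz : ρ z = ζ • 1) (g : Γ) : z * g = g * z :=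
  h.inj (by rw [map_mul, map_mul, hz, smul_one_mul, mul_smul_comm, mul_one])

theorem comm_central {x y : Γ} (hx : x ∈ C) (hy : y ∈ C) : ⁅x, y⁆ ∈ center Γ := by
  obtain ⟨ζ, hζ⟩ := h.scalar x hx y hy
  exact mem_center_iff.2 fun g => (h.commute_scalar hζ g).symm

theorem quoKer_eq : quoKer C = center C := by
  refine sup_eq_left.2 ?_
  rw [commutator_def, commutator_le]
  intro x _ y _
  refine mem_center_iff.2 fun g => Subtype.ext ?_
  show (g : Γ) * C.subtype ⁅x, y⁆ = C.subtype ⁅x, y⁆ * g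
  rw [map_commutatorElement]
  exact mem_center_iff.1 (h.comm_central x.2 y.2) g

theorem cls_eq_one {x : C} : cls C x = 1 ↔ ∀ y ∈ C, (x : Γ) * y = y * x := by
  show QuotientGroup.mk' (quoKer C) x = 1 ↔ _
  rw [QuotientGroup.mk'_apply, QuotientGroup.eq_one_iff, h.quoKer_eq, mem_center_iff]
  exact ⟨fun hx y hy => (congrArg Subtype.val (hx ⟨y, hy⟩)).symm,
    fun hx y => Subtype.ext (hx y y.2).symm⟩

theorem comm_mul_left {x x' y : Γ} (hx' : x' ∈ C) (hy : y ∈ C) :
    ⁅x * x', y⁆ = ⁅x', y⁆ * ⁅x, y⁆ := by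
  have h2 := mem_center_iff.1 (h.comm_central hx' hy) x
  calc ⁅x * x', y⁆ = x * ⁅x', y⁆ * x⁻¹ * ⁅x, y⁆ := by simp only [commutatorElement_def]; group
    _ = ⁅x', y⁆ * ⁅x, y⁆ := by rw [h2, mul_inv_cancel_right]

theorem comm_congr {x x' y : C} (e : cls C x = cls C x') :
    ⁅(x : Γ), (y : Γ)⁆ = ⁅(x' : Γ), (y : Γ)⁆ := by
  have h1 : cls C (x⁻¹ * x') = 1 := by rw [map_mul, map_inv, e, inv_mul_cancel]
  have h2 := h.cls_eq_one.1 h1 y y.2
  rw [show ((x' : C) : Γ) = (x : Γ) * ((x⁻¹ * x' : C) : Γ) by simp,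
    h.comm_mul_left (x⁻¹ * x' : C).2 y.2, commutatorElement_eq_one_iff_mul_comm.2 h2, one_mul]

/-- The commutator form. -/
noncomputable def form (u v : Quo C) : center Γ :=
  ⟨⁅((u.out : C) : Γ), ((v.out : C) : Γ)⁆, h.comm_central u.out.2 v.out.2⟩

theorem cls_out (u : Quo C) : cls C u.out = u := QuotientGroup.out_eq' u

theorem coe_form (x y : C) : ((h.form (cls C x) (cls C y) : center Γ) : Γ) = ⁅(x : Γ), (y : Γ)⁆ := by
  show ⁅(((cls C x).out : C) : Γ), (((cls C y).out : C) : Γ)⁆ = _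
  rw [h.comm_congr (h.cls_out (cls C x)), ← commutatorElement_inv,
    h.comm_congr (h.cls_out (cls C y)), commutatorElement_inv]

theorem form_mul_left (u v w : Quo C) : h.form (u * v) w = h.form u w * h.form v w := by
  obtain ⟨x, rfl⟩ := cls_surjective C u
  obtain ⟨y, rfl⟩ := cls_surjective C v
  obtain ⟨z, rfl⟩ := cls_surjective C w
  refine Subtype.ext ?_
  rw [← map_mul, h.coe_form, Subgroup.coe_mul, Subgroup.coe_mul, h.coe_form, h.coe_form,
    h.comm_mul_left y.2 z.2]
  exact (mem_center_iff.1 (h.comm_central y.2 z.2) _).symm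

theorem form_skew (u v : Quo C) : h.form v u = (h.form u v)⁻¹ :=
  Subtype.ext (commutatorElement_inv ((u.out : C) : Γ) _).symm

theorem form_mul_right (u v w : Quo C) : h.form u (v * w) = h.form u v * h.form u w := by
  rw [h.form_skew, h.form_mul_left, mul_inv, ← h.form_skew, ← h.form_skew]

theorem form_self (u : Quo C) : h.form u u = 1 := Subtype.ext (commutatorElement_self _)

theorem form_nondeg (u : Quo C) (hu : ∀ v, h.form u v = 1) : u = 1 := by
  obtain ⟨x, rfl⟩ := cls_surjective C u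
  refine h.cls_eq_one.2 fun y hy => commutatorElement_eq_one_iff_mul_comm.1 ?_
  rw [← h.coe_form x ⟨y, hy⟩, hu]
  rfl

theorem form_act [C.Normal] (g : Γ) (u v : Quo C) :
    h.form (act C g u) (act C g v) = h.form u v := by
  obtain ⟨x, rfl⟩ := cls_surjective C u
  obtain ⟨y, rfl⟩ := cls_surjective C v
  refine Subtype.ext ?_
  rw [act_cls, act_cls, h.coe_form, h.coe_form, MulAut.conjNormal_apply, MulAut.conjNormal_apply]
  rw [show ⁅g * x * g⁻¹, g * y * g⁻¹⁆ = g * ⁅(x : Γ), (y : Γ)⁆ * g⁻¹ by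
      simp only [commutatorElement_def]; group,
    mem_center_iff.1 (h.comm_central x.2 y.2) g, mul_inv_cancel_right]

variable [Fact q.Prime]

theorem quo_odd (v : Quo C) (hv : v * v = 1) : v = 1 := by
  obtain ⟨b, hb⟩ := h.pgroup.to_quotient (quoKer C) v
  have h1 := pow_gcd_eq_one.mpr ⟨hb, (pow_two v).trans hv⟩
  rwa [(((Nat.coprime_primes (Fact.out : q.Prime) Nat.prime_two).2 h.odd).pow_left b).gcd_eq_one,
    pow_one] at h1

variable [Finite Γ] [C.Normal]

/-- Fixed and inverted vectors are orthogonal. -/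
theorem form_orth' {g : Γ} {f j : Quo C} (hf : act C g f = f) (hj : act C g j = j⁻¹) :
    h.form f j = 1 :=
  form_orth h.quo_odd h.form h.form_mul_right (h.form_act g) hf hj

theorem coprime_two {P : Subgroup Γ} (hP : IsPGroup 2 P) {N : Subgroup Γ} (hN : N ≤ C) :
    (Nat.card P).Coprime (Nat.card N) := by
  haveI : Fact (Nat.Prime 2) := ⟨Nat.prime_two⟩
  obtain ⟨i, hi⟩ := IsPGroup.iff_card.1 hP
  obtain ⟨j, hj⟩ := IsPGroup.iff_card.1 (h.pgroup.to_le hN)
  rw [hi, hj]
  exact ((Nat.coprime_primes Nat.prime_two Fact.out).2 h.odd.symm).pow i j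

/-- A fixed class has a fixed representative. -/
theorem exists_fixed_lift {P : Subgroup Γ} (hP : IsPGroup 2 P) {v : Quo C}
    (hv : ∀ x ∈ P, act C x v = v) : ∃ c : C, cls C c = v ∧ ∀ x ∈ P, Commute x (c : Γ) := by
  obtain ⟨k, rfl⟩ := cls_surjective C v
  set N := C ⊓ centralizer (C : Set Γ) with hN
  haveI : N.Normal := inferInstance
  haveI : Fact (Nat.Prime 2) := ⟨Nat.prime_two⟩
  haveI := hP.isNilpotent
  obtain ⟨n, hn, hc⟩ := Coprime.exists_mul_mem_centralizer (A := P) (N := N)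
    (by rw [normalizer_eq_top]; exact le_top) (h.coprime_two hP inf_le_left)
    (.inl inferInstance) (k := (k : Γ)) fun x hx => by
      have h1 : cls C (MulAut.conjNormal x k * k⁻¹) = 1 := by
        rw [map_mul, map_inv, ← act_cls, hv x hx, mul_inv_cancel]
      have h2 : ((MulAut.conjNormal x k * k⁻¹ : C) : Γ) = ⁅x, (k : Γ)⁆ := by
        rw [Subgroup.coe_mul, MulAut.conjNormal_apply, commutatorElement_def, InvMemClass.coe_inv]
      have h3 := (MulAut.conjNormal x k * k⁻¹ : C).2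
      rw [h2] at h3
      refine ⟨h3, mem_centralizer_iff.2 fun y hy => ?_⟩
      have h4 := h.cls_eq_one.1 h1 y hy
      rw [h2] at h4
      exact h4.symm
  refine ⟨⟨n * k, mul_mem hn.1 k.2⟩, ?_, fun x hx => mem_centralizer_iff.1 hc x hx⟩
  have e : (⟨n * k, mul_mem hn.1 k.2⟩ : C) = ⟨n, hn.1⟩ * k := rfl
  rw [e, map_mul, show cls C ⟨n, hn.1⟩ = 1 from
    h.cls_eq_one.2 fun y hy => (mem_centralizer_iff.1 hn.2 y hy).symm, one_mul]

variable [CharP K 2]

theorem eq_one_of_smul {Q : Module.End K U} {ζ : K} (hQ : ζ • Q = Q) (hζ : ζ ≠ 1) : Q = 0 := by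
  have h1 : (ζ - 1) • Q = 0 := by rw [sub_smul, hQ, one_smul, sub_self]
  exact (smul_eq_zero.1 h1).resolve_left (sub_ne_zero.2 hζ)

/-- The annihilation lemma. -/
theorem eq_zero_of_mul_sub_one {P : Subgroup Γ} (hP : IsPGroup 2 P) {a : Γ} {Q : Module.End K U}
    (hQ : ∀ c ∈ C, (∀ x ∈ P, Commute x c) → Q * ρ c = ρ c * Q) (hQa : Q * (ρ a - 1) = 0)
    {v : Quo C} (hv1 : v ≠ 1) (hva : act C a v = v⁻¹) (hvP : ∀ x ∈ P, act C x v = v) : Q = 0 := by
  classical
  haveI : Fact (Nat.Prime 2) := ⟨Nat.prime_two⟩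
  obtain ⟨c, hc, hcP⟩ := h.exists_fixed_lift hP hvP
  set c' := ⁅(c : Γ), a⁆ with hc'
  have hc'C : c' ∈ C := by
    rw [hc', show ⁅(c : Γ), a⁆ = (c : Γ) * (a * (c : Γ)⁻¹ * a⁻¹) by rw [commutatorElement_def]; group]
    exact mul_mem c.2 (h.normal.conj_mem _ (inv_mem c.2) a)
  have hc'cls : cls C ⟨c', hc'C⟩ = v * v := by
    have e : (⟨c', hc'C⟩ : C) = c * (MulAut.conjNormal a c)⁻¹ := Subtype.ext (by
      show c' = _
      rw [Subgroup.coe_mul, InvMemClass.coe_inv, MulAut.conjNormal_apply, hc', commutatorElement_def]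
      group)
    rw [e, map_mul, map_inv, ← act_cls, hc, hva, inv_inv]
  have hQc : Q * ρ c' = Q := by
    have h1 : Q * (ρ ((c : Γ) * a * (c : Γ)⁻¹) - 1) = 0 := by
      have hcc := hQ c c.2 hcP
      have e : ρ ((c : Γ) * a * (c : Γ)⁻¹) - 1 = ρ (c : Γ) * (ρ a - 1) * ρ (c : Γ)⁻¹ := by
        rw [mul_sub, mul_one, sub_mul, ← map_mul, ← map_mul, ← map_mul, mul_inv_cancel, map_one]
      rw [e, ← mul_assoc, ← mul_assoc, hcc, mul_assoc (ρ (c : Γ)) Q, hQa, mul_zero, zero_mul]
    rw [show (c : Γ) * a * (c : Γ)⁻¹ = c' * a by rw [hc', commutatorElement_def]; group, map_mul,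
      mul_sub, mul_one, sub_eq_zero] at h1
    have hQa' : Q * ρ a = Q := by rwa [mul_sub, mul_one, sub_eq_zero] at hQa
    calc Q * ρ c' = Q * ρ c' * ρ a * ρ a⁻¹ := by
          rw [mul_assoc _ (ρ a), ← map_mul, mul_inv_cancel, map_one, mul_one]
      _ = Q * ρ a⁻¹ := by rw [mul_assoc Q (ρ c'), h1]
      _ = Q * ρ a * ρ a⁻¹ := by rw [hQa']
      _ = Q := by rw [mul_assoc, ← map_mul, mul_inv_cancel, map_one, mul_one]
  -- a fixed vector pairing nontrivially
  have hvv : v * v ≠ 1 := fun h0 => hv1 (h.quo_odd v h0)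
  obtain ⟨u, hu⟩ : ∃ u, h.form u (v * v) ≠ 1 := by
    by_contra hcon
    push Not at hcon
    exact hvv (h.form_nondeg _ fun u => by rw [h.form_skew, hcon, inv_one])
  haveI : Fintype P := Fintype.ofFinite P
  set u' := ∏ x : P, act C (x : Γ) u with hu'
  have hu'fix : ∀ x ∈ P, act C x u' = u' := fun x hx => by
    rw [hu', map_prod]
    refine Fintype.prod_equiv (Equiv.mulLeft (⟨x, hx⟩ : P)) _ _ fun y => ?_
    rw [Equiv.coe_mulLeft, Subgroup.coe_mul, map_mul, MulAut.mul_apply]
  have hB : h.form u' (v * v) = h.form u (v * v) ^ Nat.card P := by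
    let L : Quo C →* center Γ := MonoidHom.mk' (fun w => h.form w (v * v))
      fun w w' => h.form_mul_left w w' _
    show L u' = _
    rw [hu', map_prod, Nat.card_eq_fintype_card, ← Finset.card_univ, ← Finset.prod_const]
    refine Finset.prod_congr rfl fun x _ => ?_
    show h.form _ (v * v) = _
    conv_lhs => rw [← hvP x x.2, ← map_mul]
    exact h.form_act _ _ _
  have hne : h.form u' (v * v) ≠ 1 := by
    rw [hB]
    intro h0
    obtain ⟨i, hi⟩ := h.pgroup ⟨⁅((u.out : C) : Γ), (((v * v).out : C) : Γ)⁆,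
      commutator_le.2 (fun a ha b hb => by
        rw [commutatorElement_def]
        exact mul_mem (mul_mem (mul_mem ha hb) (inv_mem ha)) (inv_mem hb))
        (commutator_mem_commutator (u.out : C).2 ((v * v).out : C).2)⟩
    obtain ⟨k, hk⟩ := IsPGroup.iff_card.1 hP
    have h1 : h.form u (v * v) ^ q ^ i = 1 := Subtype.ext (congrArg Subtype.val hi :)
    have h2 := pow_gcd_eq_one.mpr ⟨h0, h1⟩
    rw [hk, (((Nat.coprime_primes Nat.prime_two (Fact.out : q.Prime)).2 h.odd.symm).pow k i).gcd_eq_one,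
      pow_one] at h2
    exact hu h2
  obtain ⟨d, hd, hdP⟩ := h.exists_fixed_lift hP hu'fix
  rw [← hd, ← hc'cls] at hne
  obtain ⟨ζ, hζ⟩ := h.scalar d d.2 c' hc'C
  have hζ1 : ζ ≠ 1 := fun h0 => hne (Subtype.ext (by
    rw [h.coe_form]
    exact h.inj (by rw [hζ, h0, one_smul, Subgroup.coe_one, map_one])))
  refine h.eq_one_of_smul ?_ hζ1
  have hdQ := hQ d d.2 hdP
  have h3 : Q * ρ ((d : Γ) * c' * (d : Γ)⁻¹) = Q := by
    rw [map_mul, map_mul, ← mul_assoc, ← mul_assoc, hdQ, mul_assoc (ρ (d : Γ)) Q, hQc, ← hdQ,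
      mul_assoc, ← map_mul, mul_inv_cancel, map_one, mul_one]
  rw [show (d : Γ) * c' * (d : Γ)⁻¹ = ⁅(d : Γ), c'⁆ * c' by rw [commutatorElement_def]; group, map_mul,
    hζ, smul_one_mul, mul_smul_comm, hQc] at h3
  exact h3

/-- An element killing the displacement of `a` with a fixed moved vector is trivial. -/
theorem eq_one_of_fixed {x a : Γ} (hx : IsPGroup 2 (zpowers x)) (hxa : (ρ x - 1) * (ρ a - 1) = 0)
    {v : Quo C} (hv1 : v ≠ 1) (hva : act C a v = v⁻¹) (hvx : act C x v = v) : x = 1 := by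
  refine h.inj ((sub_eq_zero.1 (h.eq_zero_of_mul_sub_one hx (fun c _ hc => ?_) hxa hv1 hva
    fun y hy => ?_)).trans ρ.map_one.symm)
  · rw [sub_mul, mul_sub, one_mul, mul_one, ← map_mul, ← map_mul, (hc x (mem_zpowers x)).eq]
  · obtain ⟨i, rfl⟩ := (isOfFinOrder_of_finite x).mem_powers_iff_mem_zpowers.2 hy
    show act C (x ^ i) v = v
    clear hy
    induction i with
    | zero => rw [pow_zero, map_one]; rfl
    | succ i ih => rw [pow_succ, map_mul, MulAut.mul_apply, hvx, ih]

/-- An element killing the displacement of `a` is trivial off the moved part. -/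
theorem act_fixed_eq {x a : Γ} (ha2 : a * a = 1) (ha1 : a ≠ 1) (hc : Commute x a)
    (hxa : (ρ x - 1) * (ρ a - 1) = 0) {v : Quo C} (hv : act C a v = v) : act C x v = v := by
  haveI : Fact (Nat.Prime 2) := ⟨Nat.prime_two⟩
  have hP : IsPGroup 2 (zpowers a) := by
    have : orderOf a = 2 := orderOf_eq_prime (by rw [pow_two, ha2]) ha1
    exact IsPGroup.of_card (n := 1) (by rw [Nat.card_zpowers, this, pow_one])
  have hfixP : ∀ {w : Quo C}, act C a w = w → ∀ y ∈ zpowers a, act C y w = w := fun {w} hw y hy => by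
    obtain ⟨i, rfl⟩ := (isOfFinOrder_of_finite a).mem_powers_iff_mem_zpowers.2 hy
    show act C (a ^ i) w = w
    clear hy
    induction i with
    | zero => rw [pow_zero, map_one]; rfl
    | succ i ih => rw [pow_succ, map_mul, MulAut.mul_apply, hw, ih]
  obtain ⟨c, hcv, hca⟩ := h.exists_fixed_lift hP (hfixP hv)
  have hca' : Commute (c : Γ) a := (hca a (mem_zpowers a)).symm
  set f := ⁅(c : Γ), x⁆ with hf
  have hfC : f ∈ C := by
    rw [hf, show ⁅(c : Γ), x⁆ = (c : Γ) * (x * (c : Γ)⁻¹ * x⁻¹) by rw [commutatorElement_def]; group]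
    exact mul_mem c.2 (h.normal.conj_mem _ (inv_mem c.2) x)
  have hkill : (ρ f - 1) * (ρ a - 1) = 0 := by
    have hxa' : ρ x * (ρ a - 1) = ρ a - 1 := by rwa [sub_mul, one_mul, sub_eq_zero] at hxa
    have hcc : ρ (c : Γ)⁻¹ * (ρ a - 1) = (ρ a - 1) * ρ (c : Γ)⁻¹ := by
      rw [mul_sub, sub_mul, ← map_mul, ← map_mul, hca'.inv_left.eq, mul_one, one_mul]
    have e : f * x = (c : Γ) * x * (c : Γ)⁻¹ := by rw [hf, commutatorElement_def]; group
    have h2 : ρ (f * x) * (ρ a - 1) = ρ a - 1 := by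
      rw [e, map_mul, map_mul, mul_assoc, mul_assoc, hcc, ← mul_assoc (ρ x), hxa', ← hcc, ← mul_assoc,
        ← map_mul, mul_inv_cancel, map_one, one_mul]
    rw [map_mul, mul_assoc, hxa'] at h2
    rw [sub_mul, one_mul, h2, sub_self]
  have hfcls : cls C ⟨f, hfC⟩ = v * (act C x v)⁻¹ := by
    rw [← hcv, act_cls, ← map_inv, ← map_mul]
    refine congrArg (cls C) (Subtype.ext ?_)
    rw [Subgroup.coe_mul, InvMemClass.coe_inv, MulAut.conjNormal_apply]
    show f = _
    rw [hf, commutatorElement_def]; group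
  have hfa : act C a (cls C ⟨f, hfC⟩) = cls C ⟨f, hfC⟩ := by
    rw [hfcls, map_mul, map_inv, hv, ← MulAut.mul_apply, ← map_mul, hc.symm.eq, map_mul,
      MulAut.mul_apply, hv]
  suffices hone : cls C ⟨f, hfC⟩ = 1 by
    rw [hfcls, mul_inv_eq_one] at hone
    exact hone.symm
  refine h.form_nondeg _ fun w => ?_
  obtain ⟨s, hs, hn, hp⟩ := exists_decomp (z := act C a) h.quo_odd
    (by rw [← map_mul, ha2, map_one]) w
  have hsplit : w = s * (act C a s)⁻¹ * (s * act C a s) := by
    rw [mul_mul_mul_comm, inv_mul_cancel, mul_one, hs]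
  rw [hsplit, h.form_mul_right, h.form_orth' hfa (mem_negPart.1 hn), one_mul]
  obtain ⟨d, hd, hda⟩ := h.exists_fixed_lift hP (hfixP hp)
  rw [← hd]
  refine Subtype.ext ?_
  rw [h.coe_form, Subgroup.coe_one]
  by_contra hne
  obtain ⟨ζ, hζ⟩ := h.scalar d d.2 f hfC
  have hζ1 : ζ ≠ 1 := fun h0 => hne (by
    rw [← inv_inj, inv_one, commutatorElement_inv]
    exact h.inj (by rw [hζ, h0, one_smul, map_one]))
  have hfa' : ρ f * (ρ a - 1) = ρ a - 1 := by rwa [sub_mul, one_mul, sub_eq_zero] at hkill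
  have hda' : ρ (d : Γ)⁻¹ * (ρ a - 1) = (ρ a - 1) * ρ (d : Γ)⁻¹ := by
    rw [mul_sub, sub_mul, ← map_mul, ← map_mul, ((hda a (mem_zpowers a)).symm.inv_left).eq, mul_one,
      one_mul]
  have h2 : ρ (⁅(d : Γ), f⁆ * f) * (ρ a - 1) = ρ a - 1 := by
    rw [show ⁅(d : Γ), f⁆ * f = (d : Γ) * f * (d : Γ)⁻¹ by rw [commutatorElement_def]; group,
      map_mul, map_mul, mul_assoc, mul_assoc, hda', ← mul_assoc (ρ f), hfa', ← hda', ← mul_assoc,
      ← map_mul, mul_inv_cancel, map_one, one_mul]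
  rw [map_mul, hζ, smul_one_mul, smul_mul_assoc, hfa'] at h2
  exact ha1 (h.inj ((sub_eq_zero.1 (h.eq_one_of_smul h2 hζ1)).trans ρ.map_one.symm))

end Sys

end CfsgLib.Solvable.TwoLengthDerived
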